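import Cfsg.Agent.Bender85.Defs

/-!
Commuting involutions at a point: definitions for the proof that then `O(H) = 1` (see `PLAN.md`).
-/

set_option autoImplicit false

namespace Cfsg.Agent.Bender20

open Subgroup MulAction Bender43 Bender43.Fixed Bender85

universe u

variable {G : Type u} [Group G] (H : Subgroup G)

/-- The centraliser of the involutions fixing the point `c`. -/
def cz (c : G ⧸ H) : Subgroup G := centralizer (invAt H c)

/-- The elements fixing `c` that centralise the involutions fixing `c`. -/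
def Cp (c : G ⧸ H) : Subgroup G := stabilizer G c ⊓ cz H c

/-- The elements fixing `a` and `b` that centralise the involutions fixing `a`. -/
def W0 (a b : G ⧸ H) : Subgroup G := stab2 a b ⊓ cz H a

/-- The elements of `G_ab` inverted by `v`. -/
def Kset (v : G) (a b : G ⧸ H) : Set G := {j | j ∈ stab2 a b ∧ v * j * v = j⁻¹}

/-- The subgroup generated by the inverted elements. -/
def Kgrp (v : G) (a b : G ⧸ H) : Subgroup G := closure (Kset H v a b)

/-- The number of involutions fixing a point, plus one. -/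
noncomputable def qN : ℕ := Nat.card {x : G // orderOf x = 2 ∧ x ∈ H} + 1

/-- The standing hypotheses: an involution `v` exchanging `a` and `b` with centre `c`, and commuting
involutions at every point. -/
structure Fr (v : G) (a b c : G ⧸ H) : Prop where
  ctx : Ctx H
  comm : Comm H
  sw : Swap H v a b c

/-- A minimal normal subgroup of `G_a` inside the odd core, of exponent `l`. -/
structure Mod0 (a : G ⧸ H) (V : Subgroup G) (l : ℕ) : Prop where
  prime : l.Prime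
  ne_two : l ≠ 2
  elem : Cfsg.IsElementaryAbelian l V
  le : V ≤ Cp H a
  ne_bot : V ≠ ⊥
  normal : stabilizer G a ≤ normalizer (V : Set G)
  minimal : ∀ U : Subgroup G, U ≤ V → stabilizer G a ≤ normalizer (U : Set G) → U = ⊥ ∨ U = V

/-- The subgroup generated by the involutions fixing `c`. -/
def zS (c : G ⧸ H) : Subgroup G := closure (invAt H c)

/-- The elements of `G_ab` commuting with `v`. -/
def Cv (v : G) (a b : G ⧸ H) : Subgroup G := stab2 a b ⊓ centralizer ({v} : Set G)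

/-- The part of `Cp H a` centralising `V`. -/
def M0 (a : G ⧸ H) (V : Subgroup G) : Subgroup G := Cp H a ⊓ centralizer (V : Set G)

theorem stabilizer_le_normalizer_zS (c : G ⧸ H) :
    stabilizer G c ≤ normalizer (zS H c : Set G) := by
  have key : ∀ g ∈ stabilizer G c, ∀ x ∈ zS H c, g * x * g⁻¹ ∈ zS H c := by
    intro g hg x hx
    have hle : zS H c ≤ (zS H c).comap (MulAut.conj g).toMonoidHom := by
      refine (closure_le _).2 fun y hy => subset_closure ⟨?_, ?_⟩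
      · exact (TwoFusionB.orderOf_conj_eq g y).trans hy.1
      · have h1 : g⁻¹ • c = c := inv_smul_eq_iff.2 (mem_stabilizer_iff.1 hg).symm
        simp [mul_smul, h1, hy.2, mem_stabilizer_iff.1 hg]
    exact hle hx
  intro g hg
  refine mem_normalizer_iff.2 fun x => ⟨key g hg x, fun hx => ?_⟩
  have h := key g⁻¹ (inv_mem hg) _ hx
  simpa [mul_assoc] using h

/-- The action of `G_c` on the involutions fixing `c`, by conjugation. -/
def actZ (c : G ⧸ H) : stabilizer G c →* MulAut (zS H c) :=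
  (normalizerMonoidHom (zS H c)).comp (inclusion (stabilizer_le_normalizer_zS H c))

/-- Linear part of a semilinear action on the non-trivial elements of a group of exponent two. -/
structure Lin {D Z : Type*} [Group D] [Group Z] (ρ : D →* MulAut Z) (A : Subgroup D) : Prop where
  normal : A.Normal
  ker_le : ρ.ker ≤ A
  cyclic : IsCyclic (A.map ρ)
  fpf : ∀ d ∈ A, d ∉ ρ.ker → ∀ z, ρ d z = z → z = 1
  comm : commutator D ≤ A
  mem_of_fpf : ∀ (d : D) (r : ℕ), r.Prime → d ^ r ∈ ρ.ker → (∀ z, ρ d z = z → z = 1) → d ∈ A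
  exists_mem : ∀ N : Subgroup D, N.Normal → ¬ N ≤ ρ.ker → ∃ d ∈ N, d ∈ A ∧ d ∉ ρ.ker
  fixed_pow : ∀ d : D, d ∉ A → ∀ r : ℕ, r.Prime → d ^ r ∈ ρ.ker →
    Nat.card {z : Z // ρ d z = z} ^ r = Nat.card Z
  dvd_exp : ∀ e : ℕ, Nat.card Z = 2 ^ e → A.index ∣ e
  quot : ∃ β : D, ∀ d : D, ∃ i : ℕ, ∃ x ∈ A, d = β ^ i * x
  good : ∃ p : ℕ, p.Prime ∧ p ∣ Nat.card Z - 1 ∧ ¬ p ∣ A.index ∧
    ∀ k ∈ A, k ∉ ρ.ker → k ^ p ∈ ρ.ker → ∀ d : D, d * k * d⁻¹ * k⁻¹ ∈ ρ.ker → d ∈ A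
  mem_of_inverted : ∀ τ : MulAut D, (∀ d ∈ ρ.ker, τ d ∈ ρ.ker) → ∀ d : D, τ d = d⁻¹ → d ∈ A

/-- The inverted elements and their relation to `G_ab` and the centraliser of `v` (KStruct.lean). -/
structure KS (v : G) (a b : G ⧸ H) : Prop where
  mem_Kgrp : ∀ j, j ∈ Kgrp H v a b ↔ j ∈ Kset H v a b
  cyclic : IsCyclic (Kgrp H v a b)
  card : Nat.card (Kgrp H v a b) = qN H - 1
  four_le : 4 ≤ qN H
  normal : stab2 a b ≤ normalizer (Kgrp H v a b : Set G)
  commW : Kgrp H v a b ≤ centralizer (W0 H a b : Set G)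
  odd_cent : ∀ j ∈ Kgrp H v a b, j ≠ 1 → ∀ z : G, orderOf z = 2 → ¬ Commute j z
  regular : ∀ z ∈ invAt H a, ∀ z' ∈ invAt H a, ∃! j, j ∈ Kgrp H v a b ∧ j * z * j⁻¹ = z'
  W_le : W0 H a b ≤ Cv H v a b
  factor : ∀ d ∈ stab2 a b, ∃ j ∈ Kgrp H v a b, ∃ s ∈ Cv H v a b, d = j * s
  quot : ∃ β ∈ Cv H v a b, ∀ s ∈ Cv H v a b, ∃ i : ℕ, ∃ w ∈ W0 H a b, s = β ^ i * w
  good : ∃ p : ℕ, p.Prime ∧ p ∣ qN H - 1 ∧ ¬ p ∣ (W0 H a b).relIndex (Cv H v a b) ∧
    ∀ k ∈ Kgrp H v a b, orderOf k = p →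
      stab2 a b ⊓ centralizer ({k} : Set G) = Kgrp H v a b ⊔ W0 H a b
  mem_linear : ∀ d ∈ stab2 a b, ∀ r : ℕ, r.Prime → d ^ r ∈ W0 H a b →
    (∀ z ∈ invAt H a, ¬ Commute d z) → d ∈ Kgrp H v a b ⊔ W0 H a b
  fixed_pow : ∀ d ∈ Cv H v a b, d ∉ W0 H a b → ∀ r : ℕ, r.Prime → d ^ r ∈ W0 H a b →
    (Nat.card {z : G // z ∈ invAt H a ∧ Commute d z} + 1) ^ r = qN H
  dvd_exp : ∀ e : ℕ, qN H = 2 ^ e → (W0 H a b).relIndex (Cv H v a b) ∣ e

/-- The facts on a minimal normal subgroup inside the core (Mod.lean). -/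
structure MF (v : G) (a b : G ⧸ H) (V : Subgroup G) (l : ℕ) : Prop where
  mod : Mod0 H a V l
  inf_stab : ∀ e : G ⧸ H, e ≠ a → V ⊓ stabilizer G e = ⊥
  fpf : ∀ x ∈ W0 H a b, x ≠ 1 → V ⊓ centralizer ({x} : Set G) = ⊥
  fpf_four : ∀ x ∈ Cv H v a b, x ≠ 1 →
    (∃ z ∈ invAt H a, ∃ z' ∈ invAt H a, z ≠ z' ∧ Commute x z ∧ Commute x z') →
    V ⊓ centralizer ({x} : Set G) = ⊥
  cyclicW : ∀ r : ℕ, r.Prime → ∀ S : Subgroup G, S ≤ W0 H a b → IsPGroup r S → IsCyclic S
  l_ndvd : ¬ l ∣ Nat.card (W0 H a b)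

/-- The inverted elements fix only the two points (Exact.lean). -/
structure EX (v : G) (a b : G ⧸ H) : Prop where
  fix_eq : ∀ j ∈ Kgrp H v a b, j ≠ 1 → ∀ e : G ⧸ H, j • e = e → e = a ∨ e = b
  cent_le : ∀ j ∈ Kgrp H v a b, j ≠ 1 → centralizer ({j} : Set G) ≤ stab2 a b
  coprime : (qN H - 1).Coprime (Nat.card (W0 H a b))
  sylow : ∀ r : ℕ, r.Prime → r ∣ qN H - 1 →
    (Nat.card G).factorization r = (Nat.card (stab2 a b : Subgroup G)).factorization r

/-- The field automorphism part (Bcases.lean). -/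
structure BC (v : G) (a b : G ⧸ H) : Prop where
  coprime : (qN H - 1).Coprime (Nat.card (Cv H v a b))
  sylow : ∀ t : ℕ, t.Prime → t ∣ qN H - 1 →
    (Nat.card G).factorization t = (qN H - 1).factorization t
  base : ∃ z ∈ invAt H a, Cv H v a b = stab2 a b ⊓ centralizer ({z} : Set G)
  split : ∀ r : ℕ, r.Prime → ∀ d ∈ Cv H v a b, d ∉ W0 H a b → d ^ r = 1 →
    qN H = 2 ^ r ∧ (W0 H a b).relIndex (Cv H v a b) = r

/-- Some element of prime order outside `W0` commutes with `v`. -/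
def HasSplit (v : G) (a b : G ⧸ H) : Prop :=
  ∃ r : ℕ, r.Prime ∧ ∃ d ∈ Cv H v a b, d ∉ W0 H a b ∧ d ^ r = 1

/-- The decomposition of `Cp H a` (VSplit.lean). -/
structure VS (v : G) (a b : G ⧸ H) (V : Subgroup G) (l : ℕ) : Prop where
  sup : Cp H a = M0 H a V ⊔ W0 H a b
  inf : M0 H a V ⊓ stab2 a b = ⊥
  nilp : Group.IsNilpotent (M0 H a V)
  coprimeW : (Nat.card (M0 H a V)).Coprime (Nat.card (W0 H a b))
  coprimeK : (qN H - 1).Coprime (Nat.card (Cp H a))
  centV : stabilizer G a ⊓ centralizer (V : Set G) ≤ Cp H a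
  le_stab2 : ∀ t : ℕ, t.Prime → t ∣ qN H - 1 → ∀ k ∈ Kgrp H v a b, orderOf k = t →
    ∀ (r : ℕ) (R : Subgroup G), r.Prime → R ≤ stabilizer G a → IsPGroup r R →
    k ∈ normalizer (R : Set G) → r ≠ t → r ≠ l → ¬ r ∣ Nat.card (M0 H a V) → R ≤ stab2 a b

end Cfsg.Agent.Bender20
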