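import Cfsg.Agent.Lib.CharCore.Complete
import Cfsg.Agent.Lib.CharCore.Linear
import Cfsg.Agent.Lib.CharInd.Char
import Cfsg.Agent.Lib.CharClifford.Separation

/-!
Restrictions of irreducible characters to an abelian subgroup containing the centralisers of its
non-trivial elements: multiplicity vectors of two linear characters not conjugate under the
normaliser differ by norm two (helper7).
-/

set_option autoImplicit false
set_option linter.unusedSectionVars false

namespace Cfsg.Agent.Bender20

open scoped ComplexConjugate Classical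

noncomputable section

universe u

variable {H : Type u} [Group H]

/-- An abelian subgroup containing the centralisers of its non-trivial elements. -/
structure IsCC (F : Subgroup H) : Prop where
  comm : ∀ a ∈ F, ∀ b ∈ F, a * b = b * a
  cent : ∀ f ∈ F, f ≠ 1 → Subgroup.centralizer ({f} : Set H) ≤ F

variable {F : Subgroup H}

theorem IsCC.cent_eq (hF : IsCC F) {f : H} (hf : f ∈ F) (h1 : f ≠ 1) :
    Subgroup.centralizer ({f} : Set H) = F :=
  le_antisymm (hF.cent f hf h1) fun _ hx => Subgroup.mem_centralizer_singleton_iff.2 (hF.comm _ hx f hf)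

theorem IsCC.mem_of_commute (hF : IsCC F) {f : H} (hf : f ∈ F) (h1 : f ≠ 1) {x : H}
    (h : x * f = f * x) : x ∈ F :=
  hF.cent f hf h1 (Subgroup.mem_centralizer_singleton_iff.2 h)

/-- An element carrying a non-trivial element of the subgroup into it normalises it. -/
theorem IsCC.mem_normalizer (hF : IsCC F) {f y : H} (hf : f ∈ F) (h1 : f ≠ 1)
    (hy : y * f * y⁻¹ ∈ F) : y ∈ Subgroup.normalizer (F : Set H) := by
  refine Subgroup.mem_normalizer_iff.2 fun g => ⟨fun hg => ?_, fun hg => ?_⟩
  · refine hF.mem_of_commute hy (by simpa using h1) ?_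
    rw [show y * g * y⁻¹ * (y * f * y⁻¹) = y * (g * f) * y⁻¹ by group, hF.comm g hg f hf]
    group
  · refine hF.mem_of_commute hf h1 ?_
    have h := hF.comm _ hg _ hy
    calc g * f = y⁻¹ * (y * g * y⁻¹ * (y * f * y⁻¹)) * y := by group
      _ = y⁻¹ * (y * f * y⁻¹ * (y * g * y⁻¹)) * y := by rw [h]
      _ = f * g := by group

variable [Fintype H]

/-- Conjugation by an element of the normaliser, as an automorphism of the subgroup. -/
def cjF (y : Subgroup.normalizer (F : Set H)) : F →* F where
  toFun f := ⟨(y : H) * f * (y : H)⁻¹, (Subgroup.mem_normalizer_iff.1 y.2 _).1 f.2⟩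
  map_one' := Subtype.ext (by simp)
  map_mul' a b := Subtype.ext (by simp [mul_assoc])

theorem cjF_coe (y : Subgroup.normalizer (F : Set H)) (f : F) :
    (cjF y f : H) = (y : H) * f * (y : H)⁻¹ := rfl

theorem cjF_bijective (y : Subgroup.normalizer (F : Set H)) : Function.Bijective (cjF y) := by
  rw [← Finite.injective_iff_bijective]
  intro a b h
  exact Subtype.ext (mul_left_cancel (mul_right_cancel (congrArg Subtype.val h)))

/-- The conjugate of an irreducible character of the subgroup. -/
def cjChar (y : Subgroup.normalizer (F : Set H)) (l : Cfsg.IrrCharacter F) : Cfsg.IrrCharacter F :=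
  ⟨fun f => (l : F → ℂ) (cjF y f),
    CharCore.isIrrCharacter_comp_surjective l.2 (cjF y) (cjF_bijective y).2⟩

/-- The trivial character. -/
noncomputable def trivF (F : Subgroup H) : Cfsg.IrrCharacter F := ⟨1, CharCore.isIrrCharacter_one⟩

theorem irr_degree_one (hF : IsCC F) (l : Cfsg.IrrCharacter F) : (l : F → ℂ) 1 = 1 := by
  obtain ⟨_, n, ρ, hρ, rfl⟩ := l
  have := hρ
  have h1 := CharClifford.finrank_le_index_of_commute ρ (⊤ : Subgroup F)
    fun a _ b _ => Subtype.ext (hF.comm a a.2 b b.2)
  rw [Subgroup.index_top] at h1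
  have h2 := CharCore.finrank_pos_of_irreducible ρ
  simp only [Representation.char_one]
  exact_mod_cast le_antisymm h1 h2

theorem irr_mul (hF : IsCC F) (l : Cfsg.IrrCharacter F) (a b : F) :
    (l : F → ℂ) (a * b) = (l : F → ℂ) a * (l : F → ℂ) b := by
  obtain ⟨φ, hφ⟩ := CharCore.IsCharacter.exists_hom_of_degree_one (CharCore.irr_isCharacter l)
    (irr_degree_one hF l)
  simp [hφ]

/-- A non-trivial linear character is fixed only by the subgroup. -/
theorem mem_of_cjChar_eq (hF : IsCC F) {y : Subgroup.normalizer (F : Set H)}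
    {l : Cfsg.IrrCharacter F} (h : cjChar y l = l) (hl : l ≠ trivF F) : (y : H) ∈ F := by
  by_contra hy
  let φ : F → F := fun f => f⁻¹ * cjF y f
  have hinj : Function.Injective φ := fun a b e => by
    by_contra hne
    have h1 : cjF y (a * b⁻¹) = a * b⁻¹ := by
      have e' : cjF y a = a * (b⁻¹ * cjF y b) := by
        rw [show b⁻¹ * cjF y b = φ b from rfl, ← e]; simp [φ]
      rw [map_mul, map_inv, e']; group
    have h2 := congrArg Subtype.val h1
    rw [cjF_coe] at h2
    refine hy (hF.mem_of_commute (a * b⁻¹).2 (fun h0 => hne ?_) ?_)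
    · exact mul_inv_eq_one.1 (Subtype.ext h0)
    · exact eq_mul_of_mul_inv_eq h2
  refine hl (Subtype.ext (funext fun g => ?_))
  obtain ⟨f, rfl⟩ := (Finite.injective_iff_surjective.1 hinj) g
  have hval : (l : F → ℂ) (cjF y f) = (l : F → ℂ) f := congrFun (congrArg Subtype.val h) f
  show (l : F → ℂ) (f⁻¹ * cjF y f) = 1
  rw [irr_mul hF, hval, ← irr_mul hF, inv_mul_cancel, irr_degree_one hF]

theorem cjChar_eq_of_mem (hF : IsCC F) {y : Subgroup.normalizer (F : Set H)} (hy : (y : H) ∈ F)
    (l : Cfsg.IrrCharacter F) : cjChar y l = l := by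
  refine Subtype.ext (funext fun f => congrArg (l : F → ℂ) (Subtype.ext ?_))
  rw [cjF_coe, hF.comm _ hy _ f.2, mul_inv_cancel_right]

/-- The multiplicity of a character of the subgroup in the restriction of one of the group. -/
noncomputable def mult (χ : H → ℂ) (l : Cfsg.IrrCharacter F) : ℂ :=
  Cfsg.classInner (fun f : F => χ f) (l : F → ℂ)

theorem mult_natCast {χ : H → ℂ} (hχ : Cfsg.IsCharacter H χ) (l : Cfsg.IrrCharacter F) :
    ∃ n : ℕ, mult χ l = n :=
  CharCore.IsCharacter.exists_classInner_irr_eq_natCast (CharCore.isCharacter_restrict hχ F) l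

theorem sum_mult (hF : IsCC F) {χ : H → ℂ} (hχ : Cfsg.IsCharacter H χ) :
    ∑ l : Cfsg.IrrCharacter F, mult χ l = χ 1 := by
  classical
  have h := congrFun (CharCore.IsCharacter.eq_sum_classInner (CharCore.isCharacter_restrict hχ F)) 1
  simp only [Finset.sum_apply, Pi.smul_apply, smul_eq_mul, irr_degree_one hF, mul_one] at h
  exact h.symm

theorem mult_cjChar {χ : H → ℂ} (hχ : Cfsg.IsClassFunction H χ)
    (y : Subgroup.normalizer (F : Set H)) (l : Cfsg.IrrCharacter F) :
    mult χ (cjChar y l) = mult χ l := by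
  classical
  simp only [mult, Cfsg.classInner]
  congr 1
  refine Fintype.sum_equiv (Equiv.ofBijective _ (cjF_bijective y)) _ _ fun f => ?_
  simp only [Equiv.ofBijective_apply, cjChar, cjF_coe]
  rw [hχ (f : H) (y : H)]

theorem mult_sub (ψ : H → ℂ) (l l' : Cfsg.IrrCharacter F) :
    mult ψ l - mult ψ l' = Cfsg.classInner (fun f : F => ψ f) ((l : F → ℂ) - (l' : F → ℂ)) := by
  classical
  rw [CharCore.classInner_sub_right]; rfl

/-- Orthogonality of the differences of multiplicity vectors to a column outside the subgroup. -/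
theorem sum_mult_sub_mul (hF : IsCC F) (l l' : Cfsg.IrrCharacter F) {g : H}
    (hg : ∀ f ∈ F, f ≠ 1 → ¬ IsConj f g) :
    ∑ ψ : Cfsg.IrrCharacter H, (mult (ψ : H → ℂ) l - mult (ψ : H → ℂ) l') * conj ((ψ : H → ℂ) g) = 0 := by
  classical
  simp only [mult_sub, Cfsg.classInner, mul_assoc, Finset.sum_mul, ← Finset.mul_sum]
  rw [Finset.sum_comm, Finset.sum_eq_zero, mul_zero]
  intro f _
  by_cases hf : f = 1
  · subst hf
    simp [irr_degree_one hF]
  · rw [Finset.sum_congr rfl (g := fun ψ : Cfsg.IrrCharacter H => conj (((l : F → ℂ) - (l' : F → ℂ)) f) *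
      ((ψ : H → ℂ) f * conj ((ψ : H → ℂ) g))) (fun ψ _ => by ring), ← Finset.mul_sum,
      CharCore.sum_apply_mul_conj, if_neg (hg _ f.2 (fun h => hf (Subtype.ext h))), mul_zero]

/-- The inner product of two differences of multiplicity vectors is an average over the normaliser. -/
theorem sum_mult_sub_mul_conj (hF : IsCC F) (l l' a b : Cfsg.IrrCharacter F) :
    ∑ ψ : Cfsg.IrrCharacter H,
      (mult (ψ : H → ℂ) a - mult (ψ : H → ℂ) b) * conj (mult (ψ : H → ℂ) l - mult (ψ : H → ℂ) l') =
      (Nat.card F : ℂ)⁻¹ * ∑ y : Subgroup.normalizer (F : Set H),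
        Cfsg.classInner ((cjChar y l : F → ℂ) - (cjChar y l' : F → ℂ)) ((a : F → ℂ) - (b : F → ℂ)) := by
  classical
  let α : F → ℂ := (l : F → ℂ) - (l' : F → ℂ)
  let β : F → ℂ := (a : F → ℂ) - (b : F → ℂ)
  have hβ1 : β 1 = 0 := by simp [β, irr_degree_one hF]
  let k : ℂ := Nat.card F
  have hk : k ≠ 0 := Nat.cast_ne_zero.2 Nat.card_pos.ne'
  have hinner : ∀ f : F, ∑ f' : F, α f' *
      (if IsConj (f : H) f' then (Nat.card (Subgroup.centralizer ({(f : H)} : Set H)) : ℂ) else 0) *
        conj (β f) = (∑ y : Subgroup.normalizer (F : Set H), α (cjF y f)) * conj (β f) := by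
    intro f
    rw [← Finset.sum_mul]
    by_cases hf : f = 1
    · subst hf; simp [hβ1]
    congr 1
    have hf' : (f : H) ≠ 1 := fun h => hf (Subtype.ext h)
    rw [hF.cent_eq f.2 hf', ← Finset.sum_fiberwise_of_maps_to
      (g := fun y : Subgroup.normalizer (F : Set H) => cjF y f) (t := Finset.univ)
      (fun y _ => Finset.mem_univ _)]
    refine Finset.sum_congr rfl fun f' _ => ?_
    rw [Finset.sum_congr rfl (g := fun _ => α f') (fun y hy => by rw [(Finset.mem_filter.1 hy).2]),
      Finset.sum_const, nsmul_eq_mul, mul_comm (α f')]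
    congr 1
    by_cases hc : IsConj (f : H) f'
    · rw [if_pos hc]
      obtain ⟨c, hc'⟩ := isConj_iff.1 hc
      have hcN := hF.mem_normalizer f.2 hf' (hc' ▸ f'.2)
      congr 1
      rw [← Nat.card_eq_finsetCard]
      symm
      refine Nat.card_congr
        { toFun := fun y => ⟨c⁻¹ * (y.1 : H), ?_⟩
          invFun := fun e => ⟨⟨c * (e : H), mul_mem hcN (Subgroup.le_normalizer e.2)⟩, ?_⟩
          left_inv := fun y => Subtype.ext (Subtype.ext (mul_inv_cancel_left _ _))
          right_inv := fun e => Subtype.ext (inv_mul_cancel_left _ _) }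
      · have h := congrArg Subtype.val (Finset.mem_filter.1 y.2).2
        rw [cjF_coe, ← hc'] at h
        refine hF.mem_of_commute f.2 hf' ?_
        calc c⁻¹ * (y.1 : H) * f = c⁻¹ * ((y.1 : H) * f * (y.1 : H)⁻¹) * (y.1 : H) := by group
          _ = c⁻¹ * (c * f * c⁻¹) * (y.1 : H) := by rw [h]
          _ = f * (c⁻¹ * (y.1 : H)) := by group
      · refine Finset.mem_filter.2 ⟨Finset.mem_univ _, Subtype.ext ?_⟩
        rw [cjF_coe, ← hc', show c * (e : H) * f * (c * (e : H))⁻¹ = c * ((e : H) * f * (e : H)⁻¹) * c⁻¹ by group,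
          hF.comm _ e.2 _ f.2, mul_inv_cancel_right]
    · rw [if_neg hc, Finset.card_eq_zero.2, Nat.cast_zero]
      refine Finset.filter_eq_empty_iff.2 fun y _ h => hc (isConj_iff.2 ⟨(y : H), ?_⟩)
      rw [← cjF_coe, h]
  have key : ∑ ψ : Cfsg.IrrCharacter H,
      (mult (ψ : H → ℂ) a - mult (ψ : H → ℂ) b) * conj (mult (ψ : H → ℂ) l - mult (ψ : H → ℂ) l') =
      k⁻¹ * ∑ y : Subgroup.normalizer (F : Set H),
        Cfsg.classInner (fun f => α (cjF y f)) β := by
    calc _ = k⁻¹ * (k⁻¹ * ∑ f : F, ∑ f' : F, α f' *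
          (if IsConj (f : H) f' then (Nat.card (Subgroup.centralizer ({(f : H)} : Set H)) : ℂ) else 0) *
            conj (β f)) := by
          simp only [mult_sub, Cfsg.classInner, map_mul, map_sum, map_inv₀, map_natCast, Complex.conj_conj,
            ← CharCore.sum_apply_mul_conj, Finset.mul_sum, Finset.sum_mul]
          rw [Finset.sum_comm]
          conv_rhs => rw [Finset.sum_comm]
          refine Finset.sum_congr rfl fun f _ => ?_
          rw [Finset.sum_comm]
          refine Finset.sum_congr rfl fun f' _ => Finset.sum_congr rfl fun ψ _ => ?_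
          simp only [α, β, k]
          ring
      _ = _ := by
          simp only [hinner, Cfsg.classInner, Finset.sum_mul, Finset.mul_sum]
          rw [Finset.sum_comm]
  exact key

/-- Multiplicity vectors of two non-trivial characters not conjugate in the normaliser differ by
norm two. -/
theorem sum_mult_sub_sq (hF : IsCC F) {l l' : Cfsg.IrrCharacter F} (hl : l ≠ trivF F)
    (hl' : l' ≠ trivF F) (hrel : ∀ y : Subgroup.normalizer (F : Set H), cjChar y l ≠ l')
    (hrel' : ∀ y : Subgroup.normalizer (F : Set H), cjChar y l' ≠ l) :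
    ∑ ψ : Cfsg.IrrCharacter H,
      (mult (ψ : H → ℂ) l - mult (ψ : H → ℂ) l') * conj (mult (ψ : H → ℂ) l - mult (ψ : H → ℂ) l') = 2 := by
  classical
  let α : F → ℂ := (l : F → ℂ) - (l' : F → ℂ)
  let k : ℂ := Nat.card F
  have hk : k ≠ 0 := Nat.cast_ne_zero.2 Nat.card_pos.ne'
  have key := sum_mult_sub_mul_conj hF l l' l l'
  have hterm : ∀ y : Subgroup.normalizer (F : Set H),
      Cfsg.classInner ((cjChar y l : F → ℂ) - (cjChar y l' : F → ℂ)) ((l : F → ℂ) - (l' : F → ℂ)) =
        if (y : H) ∈ F then 2 else 0 := by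
    intro y
    simp only [CharCore.classInner_sub_left, CharCore.classInner_sub_right,
      CharCore.classInner_irr_of_ne (hrel y), CharCore.classInner_irr_of_ne (hrel' y), sub_zero, zero_sub,
      sub_neg_eq_add]
    by_cases hy : (y : H) ∈ F
    · rw [if_pos hy, cjChar_eq_of_mem hF hy, cjChar_eq_of_mem hF hy, CharCore.classInner_irr_self,
        CharCore.classInner_irr_self]
      norm_num
    · rw [if_neg hy, CharCore.classInner_irr_of_ne (fun h => hy (mem_of_cjChar_eq hF h hl)),
        CharCore.classInner_irr_of_ne (fun h => hy (mem_of_cjChar_eq hF h hl')), add_zero]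
  rw [key]
  simp only [hterm, ← Finset.sum_filter, Finset.sum_const, nsmul_eq_mul]
  have hcard : (Finset.univ.filter fun y : Subgroup.normalizer (F : Set H) => (y : H) ∈ F).card =
      Nat.card F := by
    rw [← Nat.card_eq_finsetCard]
    exact Nat.card_congr
      { toFun := fun y => ⟨y.1, (Finset.mem_filter.1 y.2).2⟩
        invFun := fun f => ⟨⟨f, Subgroup.le_normalizer f.2⟩, Finset.mem_filter.2 ⟨Finset.mem_univ _, f.2⟩⟩
        left_inv := fun y => rfl
        right_inv := fun f => rfl }
  rw [hcard, ← mul_assoc, inv_mul_cancel₀ hk, one_mul]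

end

end Cfsg.Agent.Bender20
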