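import Cfsg.Agent.Lib.CharInd.Char
import Cfsg.Agent.Lib.CharCore.Virtual
import Cfsg.Agent.InvChar68.CharTools
import Cfsg.Agent.Lib.CharClifford.Eigen
import Cfsg.Agent.Lib.Involution.StronglyEmbedded

/-!
A generalised character of norm three of a subgroup, of degree zero, supported off the involutions
and their products on elements carried into the subgroup only by itself, cannot exist in a group
generated by one class of involutions (helper7).
-/

set_option autoImplicit false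
set_option linter.unusedSectionVars false

namespace Cfsg.Agent.Bender20

open scoped ComplexConjugate Classical

noncomputable section

universe u

theorem extendByZero_ne {G : Type u} [Group G] {H : Subgroup G} (θ : H → ℂ) {g : G} (hg : g ∈ H) :
    Cfsg.extendByZero H θ g = θ ⟨g, hg⟩ := CharInd.extendByZero_mem θ hg

/-- The elimination in the two non-principal constituents. -/
theorem value_eq_degree_of_relations {a₁ a₂ d₁ d₂ u₁ u₂ : ℂ} (h₁ : a₁ = 1 ∨ a₁ = -1)
    (h₂ : a₂ = 1 ∨ a₂ = -1) (hd₁ : d₁ ≠ 0) (hd₂ : d₂ ≠ 0) (hsum : 1 + a₁ * d₁ + a₂ * d₂ = 0)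
    (hu : a₁ * u₁ + a₂ * u₂ = 0) (hsq : a₁ * u₁ ^ 2 / d₁ + a₂ * u₂ ^ 2 / d₂ = 0) : u₁ = 0 := by
  have h2 : a₂ * a₂ = 1 := by rcases h₂ with rfl | rfl <;> norm_num
  have h1 : a₁ * a₁ = 1 := by rcases h₁ with rfl | rfl <;> norm_num
  have e2 : u₂ = -(a₁ * a₂) * u₁ := by linear_combination a₂ * hu - u₂ * h2
  rw [e2] at hsq
  have h3 : u₁ ^ 2 * (a₁ * d₂ + a₂ * d₁) = 0 := by
    have h4 : a₁ * u₁ ^ 2 * d₂ + a₂ * (-(a₁ * a₂) * u₁) ^ 2 * d₁ = 0 := by
      field_simp at hsq
      linear_combination hsq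
    linear_combination h4 - a₂ * u₁ ^ 2 * d₁ * (a₂ * a₂) * h1 - a₂ * u₁ ^ 2 * d₁ * h2
  rcases mul_eq_zero.1 h3 with h | h
  · exact sq_eq_zero_iff.1 h
  · exfalso
    have : (a₁ * a₂) * (a₁ * d₂ + a₂ * d₁) = a₁ * d₁ + a₂ * d₂ := by
      linear_combination (a₁ * d₁) * h2 + (a₂ * d₂) * h1
    rw [h, mul_zero] at this
    rw [add_assoc, ← this, add_zero] at hsum
    exact one_ne_zero hsum

/-- There is no such generalised character. -/
theorem false_of_norm_three {G : Type u} [Group G] [Fintype G] (H : Subgroup G) {f : H → ℂ}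
    (hf : Cfsg.IsGeneralizedCharacter H f) (hnorm : Cfsg.classInner f f = 3)
    (hone : Cfsg.classInner f 1 = 1) (hf1 : f 1 = 0)
    (hTI : ∀ h : H, f h ≠ 0 → ∀ g : G, g * h * g⁻¹ ∈ H → g ∈ H)
    (hinv : ∀ s : H, orderOf s = 2 → f s = 0)
    (hprod : ∀ s t : H, orderOf s = 2 → orderOf t = 2 → f (s * t) = 0)
    (hconj : ∀ a b : G, orderOf a = 2 → orderOf b = 2 → IsConj a b)
    (hgen : Subgroup.closure {x : G | orderOf x = 2} = ⊤) {z : G} (hz : orderOf z = 2) : False := by
  have hfc := CharCore.IsGeneralizedCharacter.isClassFunction hf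
  set φ := Cfsg.indFun H f with hφ
  have hφg : Cfsg.IsGeneralizedCharacter G φ := CharInd.isGeneralizedCharacter_indFun H hf
  have hH0 : (Nat.card H : ℂ) ≠ 0 := Nat.cast_ne_zero.2 Nat.card_pos.ne'
  -- the induced function agrees with `f` on its support
  have hagree : ∀ h : H, f h ≠ 0 → φ h = f h := by
    intro h hh
    rw [hφ, CharInd.indFun_apply, Finset.sum_congr rfl
      (g := fun x : G => if x ∈ H then f h else 0) (fun x _ => ?_)]
    · rw [← Finset.sum_filter, Finset.sum_const, nsmul_eq_mul,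
        show (Finset.univ.filter fun x : G => x ∈ H).card = Nat.card H by
          rw [← Nat.card_eq_finsetCard]
          exact Nat.card_congr (Equiv.subtypeEquivRight fun x => by simp),
        inv_mul_cancel_left₀ hH0]
    · by_cases hx : x ∈ H
      · rw [if_pos hx]
        have hm : x⁻¹ * (h : G) * x ∈ H := mul_mem (mul_mem (inv_mem hx) h.2) hx
        rw [CharInd.extendByZero_mem f hm]
        have := hfc h ⟨x⁻¹, inv_mem hx⟩
        convert this using 2
        exact Subtype.ext (by simp)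
      · rw [if_neg hx]
        refine CharInd.extendByZero_notMem f fun hm => hx ?_
        exact inv_inv x ▸ inv_mem (hTI h hh x⁻¹ (by rwa [inv_inv]))
  have hφφ : Cfsg.classInner φ φ = 3 := by
    rw [hφ, CharInd.classInner_indFun_left H f (CharInd.isClassFunction_indFun H f), ← hnorm,
      Cfsg.classInner, Cfsg.classInner]
    congr 1
    refine Finset.sum_congr rfl fun h _ => ?_
    by_cases hh : f h = 0
    · rw [hh, zero_mul, zero_mul]
    · rw [← hφ, hagree h hh]
  choose a ha using fun χ : Cfsg.IrrCharacter G =>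
    CharCore.IsGeneralizedCharacter.exists_classInner_irr_eq_intCast hφg χ
  have hexp : ∀ g, φ g = ∑ χ : Cfsg.IrrCharacter G, (a χ : ℂ) * (χ : G → ℂ) g := fun g => by
    conv_lhs => rw [CharCore.eq_sum_classInner (CharCore.IsGeneralizedCharacter.isClassFunction hφg)]
    simp [ha]
  have hsum : ∑ χ, a χ * a χ = 3 := by
    have h := hφφ
    have hc := CharCore.IsGeneralizedCharacter.isClassFunction hφg
    rw [CharCore.classInner_eq_sum hc hc] at h
    simp only [ha, map_intCast] at h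
    exact_mod_cast h
  let one : Cfsg.IrrCharacter G := ⟨1, CharCore.isIrrCharacter_one⟩
  have hone' : a one = 1 := by
    have h := ha one
    rw [hφ, CharInd.classInner_indFun_left H f (CharCore.irr_isClassFunction one)] at h
    have h' : Cfsg.classInner f (fun h : H => (one : G → ℂ) h) = 1 := hone
    rw [h'] at h
    exact_mod_cast h.symm
  -- the three relations
  have h10 : φ 1 = 0 := by rw [hφ, CharInd.indFun_apply_one, hf1, mul_zero]
  have hz0 : φ z = 0 := by
    rw [hφ, CharInd.indFun_apply, Finset.sum_eq_zero, mul_zero]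
    intro x _
    by_cases hx : x⁻¹ * z * x ∈ H
    · rw [CharInd.extendByZero_mem f hx]
      refine hinv _ ?_
      rw [← orderOf_injective H.subtype H.subtype_injective]
      show orderOf (x⁻¹ * z * x) = 2
      rw [show x⁻¹ * z * x = x⁻¹ * z * x⁻¹⁻¹ by rw [inv_inv], Involution.orderOf_conj, hz]
    · exact CharInd.extendByZero_notMem f hx
  have hS : ∀ h : H, f h ≠ 0 → ∑ χ : Cfsg.IrrCharacter G,
      (χ : G → ℂ) z ^ 2 * conj ((χ : G → ℂ) (h : G)) / (χ : G → ℂ) 1 = 0 := by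
    intro h hh
    have hcard : Nat.card {p : G × G // IsConj z p.1 ∧ IsConj z p.2 ∧ p.1 * p.2 = (h : G)} = 0 := by
      rw [Nat.card_eq_zero]
      refine Or.inl ⟨fun ⟨⟨p, q⟩, hp, hq, hpq⟩ => hh ?_⟩
      have ho : ∀ y, IsConj z y → orderOf y = 2 := fun y hy => by
        obtain ⟨c, rfl⟩ := isConj_iff.1 hy
        rw [Involution.orderOf_conj, hz]
      have hp2 : p * p = 1 := by rw [← pow_two, ← ho p hp, pow_orderOf_eq_one]
      have hq2 : q * q = 1 := by rw [← pow_two, ← ho q hq, pow_orderOf_eq_one]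
      have hmem : p * (h : G) * p⁻¹ ∈ H := by
        have e : p * (h : G) * p⁻¹ = (h : G)⁻¹ := by
          rw [← hpq, inv_eq_of_mul_eq_one_right hp2, mul_inv_rev, inv_eq_of_mul_eq_one_right hp2,
            inv_eq_of_mul_eq_one_right hq2, ← mul_assoc, hp2, one_mul]
        rw [e]; exact inv_mem h.2
      have hpH := hTI h hh p hmem
      have hqH : q ∈ H := by
        rw [show q = p⁻¹ * (h : G) by rw [← hpq, inv_mul_cancel_left]]
        exact mul_mem (inv_mem hpH) h.2
      have e : h = (⟨p, hpH⟩ : H) * ⟨q, hqH⟩ := Subtype.ext hpq.symm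
      rw [e]
      exact hprod _ _ ((Subgroup.orderOf_mk p hpH).trans (ho p hp))
        ((Subgroup.orderOf_mk q hqH).trans (ho q hq))
    have key := InvChar68.card_pairs_mul_card z (h : G)
    rw [hcard, Nat.cast_zero, zero_mul] at key
    have hne : (Nat.card {y : G // IsConj z y} : ℂ) ^ 2 ≠ 0 := by
      have : Nonempty {y : G // IsConj z y} := ⟨⟨z, IsConj.refl z⟩⟩
      exact pow_ne_zero 2 (Nat.cast_ne_zero.2 Nat.card_pos.ne')
    exact (mul_eq_zero.1 key.symm).resolve_left hne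
  have hsq : ∑ χ : Cfsg.IrrCharacter G, (a χ : ℂ) * ((χ : G → ℂ) z ^ 2 / (χ : G → ℂ) 1) = 0 := by
    have e : ∀ χ : Cfsg.IrrCharacter G, (a χ : ℂ) =
        (Nat.card H : ℂ)⁻¹ * ∑ h : H, f h * conj ((χ : G → ℂ) (h : G)) := fun χ => by
      rw [← ha, hφ, CharInd.classInner_indFun_left H f (CharCore.irr_isClassFunction χ),
        Cfsg.classInner]
    simp only [e, Finset.sum_mul, Finset.mul_sum]
    rw [Finset.sum_comm]
    refine Finset.sum_eq_zero fun h _ => ?_
    by_cases hh : f h = 0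
    · simp [hh]
    rw [Finset.sum_congr rfl (g := fun χ : Cfsg.IrrCharacter G => (Nat.card H : ℂ)⁻¹ * f h *
      ((χ : G → ℂ) z ^ 2 * conj ((χ : G → ℂ) (h : G)) / (χ : G → ℂ) 1)) (fun χ _ => by ring),
      ← Finset.mul_sum, hS h hh, mul_zero]
  -- two further constituents
  have hrest : ∑ χ ∈ Finset.univ.erase one, a χ * a χ = 2 := by
    rw [← Finset.add_sum_erase _ _ (Finset.mem_univ one), hone'] at hsum
    linarith
  obtain ⟨χ₁, hχ₁, hne₁⟩ := Finset.exists_ne_zero_of_sum_ne_zero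
    (show ∑ χ ∈ Finset.univ.erase one, a χ * a χ ≠ 0 by rw [hrest]; norm_num)
  have hnn : ∀ (s : Finset (Cfsg.IrrCharacter G)), ∀ χ ∈ s, 0 ≤ a χ * a χ :=
    fun _ χ _ => mul_self_nonneg _
  have hunit : ∀ χ, χ ∈ Finset.univ.erase one → a χ ≠ 0 → a χ = 1 ∨ a χ = -1 := by
    intro χ hχ h0
    have h := (Finset.single_le_sum (hnn _) hχ).trans_eq hrest
    have hb1 : -1 ≤ a χ := by nlinarith
    have hb2 : a χ ≤ 1 := by nlinarith
    omega
  have h₁ := hunit χ₁ hχ₁ (fun h => hne₁ (by rw [h, zero_mul]))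
  have hrest' : ∑ χ ∈ (Finset.univ.erase one).erase χ₁, a χ * a χ = 1 := by
    rw [← Finset.add_sum_erase _ _ hχ₁] at hrest
    rcases h₁ with h | h <;> rw [h] at hrest <;> linarith
  obtain ⟨χ₂, hχ₂, hne₂⟩ := Finset.exists_ne_zero_of_sum_ne_zero
    (show ∑ χ ∈ (Finset.univ.erase one).erase χ₁, a χ * a χ ≠ 0 by rw [hrest']; norm_num)
  have hχ₂' := Finset.mem_of_mem_erase hχ₂
  have h₂ := hunit χ₂ hχ₂' (fun h => hne₂ (by rw [h, zero_mul]))
  have hzero : ∀ χ, χ ≠ one → χ ≠ χ₁ → χ ≠ χ₂ → a χ = 0 := by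
    intro χ n0 n1 n2
    rw [← Finset.add_sum_erase _ _ hχ₂] at hrest'
    have hm : χ ∈ ((Finset.univ.erase one).erase χ₁).erase χ₂ := by simp [n0, n1, n2]
    have h := Finset.single_le_sum (hnn _) hm
    have h' : a χ₂ * a χ₂ = 1 := by rcases h₂ with e | e <;> rw [e] <;> rfl
    have h'' : a χ * a χ = 0 := le_antisymm (by linarith) (mul_self_nonneg _)
    exact mul_self_eq_zero.1 h''
  have hsplit : ∀ F : Cfsg.IrrCharacter G → ℂ, ∑ χ, (a χ : ℂ) * F χ =
      F one + ((a χ₁ : ℂ) * F χ₁ + (a χ₂ : ℂ) * F χ₂) := fun F => by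
    rw [← Finset.add_sum_erase _ _ (Finset.mem_univ one), ← Finset.add_sum_erase _ _ hχ₁,
      ← Finset.add_sum_erase _ _ hχ₂, Finset.sum_eq_zero (fun χ hχ => ?_), hone', Int.cast_one,
      one_mul, add_zero]
    obtain ⟨n2, n1, n0, -⟩ := by simpa only [Finset.mem_erase] using hχ
    rw [hzero χ n0 n1 n2, Int.cast_zero, zero_mul]
  have hd := h10.symm.trans ((hexp 1).trans (hsplit fun χ => (χ : G → ℂ) 1))
  have hv := hz0.symm.trans ((hexp z).trans (hsplit fun χ => (χ : G → ℂ) z))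
  have hq := hsq.symm.trans (hsplit fun χ => (χ : G → ℂ) z ^ 2 / (χ : G → ℂ) 1)
  simp only [one, Pi.one_apply, one_pow, div_one] at hd hv hq
  have hd₁ := CharCore.irr_apply_one_ne_zero χ₁
  have hd₂ := CharCore.irr_apply_one_ne_zero χ₂
  have hcast : ∀ {n : ℤ}, n = 1 ∨ n = -1 → (n : ℂ) = 1 ∨ (n : ℂ) = -1 := by
    rintro n (rfl | rfl) <;> simp
  have hu := value_eq_degree_of_relations (u₁ := (χ₁ : G → ℂ) z - (χ₁ : G → ℂ) 1)
    (u₂ := (χ₂ : G → ℂ) z - (χ₂ : G → ℂ) 1) (hcast h₁) (hcast h₂) hd₁ hd₂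
    (by linear_combination -hd) (by linear_combination hd - hv)
    (by field_simp at hq ⊢; linear_combination (-1 : ℂ) * hq + 2 * (χ₁ : G → ℂ) 1 * (χ₂ : G → ℂ) 1 * hv
      - (χ₁ : G → ℂ) 1 * (χ₂ : G → ℂ) 1 * hd)
  -- the character `χ₁` is trivial
  obtain ⟨n, ρ, hρ, hχ⟩ := χ₁.2
  have hzk : ρ z = 1 := CharClifford.eq_one_of_character_eq_finrank ρ z (by
    rw [hχ, sub_eq_zero.1 hu, ← hχ, Representation.char_one])
  have hker : Subgroup.closure {x : G | orderOf x = 2} ≤ ρ.ker := by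
    rw [Subgroup.closure_le]
    intro x hx
    obtain ⟨c, rfl⟩ := isConj_iff.1 (hconj z x hz hx)
    show ρ (c * z * c⁻¹) = 1
    rw [map_mul, map_mul, hzk, mul_one, ← map_mul, mul_inv_cancel, map_one]
  rw [hgen, top_le_iff] at hker
  have hconst : ∀ g, (χ₁ : G → ℂ) g = (χ₁ : G → ℂ) 1 := fun g => by
    have : ρ g = 1 := (hker ▸ Subgroup.mem_top g : g ∈ ρ.ker)
    rw [← hχ]
    simp only [Representation.character, this, map_one]
  have hne : χ₁ ≠ one := (Finset.mem_erase.1 hχ₁).1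
  have h0 := CharCore.classInner_irr_of_ne hne
  rw [Cfsg.classInner, Finset.sum_congr rfl (g := fun _ => (χ₁ : G → ℂ) 1)
    (fun g _ => by simp [one, hconst g]), Finset.sum_const, nsmul_eq_mul, Finset.card_univ,
    ← Nat.card_eq_fintype_card,
    inv_mul_cancel_left₀ (Nat.cast_ne_zero.2 Nat.card_pos.ne')] at h0
  exact hd₁ h0

end

end Cfsg.Agent.Bender20
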