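import Cfsg.Agent.PermB.CentralizerAlgebra
import Cfsg.Agent.Lib.CharCore.Virtual
import Mathlib.LinearAlgebra.Matrix.GeneralLinearGroup.Card
import Mathlib.GroupTheory.GroupAction.Quotient
import Mathlib.Algebra.Field.ZMod

/-!
The group of linear automorphisms of the plane of order two: a generalised character of norm three
of degree zero vanishing on the normaliser of a subgroup of order seven (helper7).

It is `1 + π₇ - π₈` with `π₇` on the non-zero vectors and `π₈` on the cosets of that normaliser.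
-/

set_option autoImplicit false
set_option linter.unusedSectionVars false

namespace Cfsg.Agent.Bender20

open MulAction
open scoped ComplexConjugate

noncomputable section

universe u v w

/-- The vector space of dimension three over the field of two elements. -/
abbrev V3 : Type := Fin 3 → ZMod 2

/-- The non-zero vectors. -/
abbrev V3s : Type := {v : V3 // v ≠ 0}

theorem card_equiv_V3 : Nat.card (V3 ≃ₗ[ZMod 2] V3) = 168 := by
  rw [Nat.card_congr ((Matrix.GeneralLinearGroup.toLin.trans
    (LinearMap.GeneralLinearGroup.generalLinearEquiv (ZMod 2) V3)).toEquiv.symm),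
    Matrix.card_GL_field]
  simp [Fin.prod_univ_three, ZMod.card]

section Perm

variable (G : Type u) [Group G] [Fintype G]

/-- Two permutation characters have as inner product the number of orbits on the product. -/
theorem classInner_permChar (A : Type v) (B : Type w) [Fintype A] [Fintype B] [MulAction G A]
    [MulAction G B] :
    Cfsg.classInner (PermB.permChar G A) (PermB.permChar G B) =
      (Nat.card (Quotient (orbitRel G (A × B))) : ℂ) := by
  classical
  let := Fintype.ofFinite (Quotient (orbitRel G (A × B)))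
  have h := sum_card_fixedBy_eq_card_orbits_mul_card_group G (A × B)
  have h' : ∀ g : G, PermB.permChar G A g * conj (PermB.permChar G B g) =
      (Fintype.card (fixedBy (A × B) g) : ℂ) := fun g => by
    rw [PermB.permChar, PermB.permChar, map_natCast, ← Nat.cast_mul, ← Nat.card_prod,
      ← Nat.card_eq_fintype_card]
    exact congrArg Nat.cast (Nat.card_congr
      { toFun := fun q => ⟨(q.1.1, q.2.1), Prod.ext q.1.2 q.2.2⟩
        invFun := fun q => (⟨q.1.1, congrArg Prod.fst q.2⟩, ⟨q.1.2, congrArg Prod.snd q.2⟩)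
        left_inv := fun q => rfl
        right_inv := fun q => rfl })
  simp only [Cfsg.classInner, h', ← Nat.cast_sum, h, Nat.cast_mul]
  rw [Nat.card_eq_fintype_card (α := Quotient (orbitRel G (A × B))), Nat.card_eq_fintype_card,
    mul_comm (Fintype.card (Quotient (orbitRel G (A × B))) : ℂ), inv_mul_cancel_left₀]
  exact Nat.cast_ne_zero.2 Fintype.card_ne_zero

/-- A permutation character has as inner product with the principal one the number of orbits. -/
theorem classInner_permChar_one (A : Type v) [Fintype A] [MulAction G A] :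
    Cfsg.classInner (PermB.permChar G A) 1 = (Nat.card (Quotient (orbitRel G A)) : ℂ) := by
  classical
  let := Fintype.ofFinite (Quotient (orbitRel G A))
  have h := sum_card_fixedBy_eq_card_orbits_mul_card_group G A
  simp only [Cfsg.classInner, PermB.permChar, Pi.one_apply, map_one, mul_one, ← Nat.cast_sum,
    Nat.card_eq_fintype_card, h, Nat.cast_mul]
  rw [mul_comm (Fintype.card (Quotient (orbitRel G A)) : ℂ), inv_mul_cancel_left₀]
  exact Nat.cast_ne_zero.2 Fintype.card_ne_zero

/-- The number of orbits of a transitive action is one. -/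
theorem card_orbits_one (A : Type v) [MulAction G A] [Nonempty A] (h : ∀ a b : A, ∃ g : G, g • a = b) :
    Nat.card (Quotient (orbitRel G A)) = 1 := by
  obtain ⟨a⟩ := ‹Nonempty A›
  refine Nat.card_eq_one_iff_exists.2 ⟨⟦a⟧, fun q => Quotient.inductionOn q fun b => ?_⟩
  obtain ⟨g, hg⟩ := h a b
  exact Quotient.sound ⟨g, hg⟩

/-- A doubly transitive action has two orbits on pairs. -/
theorem card_orbits_two (A : Type v) [MulAction G A] [Nontrivial A]
    (h : ∀ a b c d : A, a ≠ b → c ≠ d → ∃ g : G, g • a = c ∧ g • b = d)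
    (h1 : ∀ a b : A, ∃ g : G, g • a = b) :
    Nat.card (Quotient (orbitRel G (A × A))) = 2 := by
  obtain ⟨a, b, hab⟩ := exists_pair_ne A
  refine Nat.card_eq_two_iff.2 ⟨⟦(a, a)⟧, ⟦(a, b)⟧, fun he => ?_,
    Set.eq_univ_of_forall fun q => Quotient.inductionOn q fun ⟨c, d⟩ => ?_⟩
  · obtain ⟨g, hg⟩ := Quotient.exact he
    have e1 : g • a = a := congrArg Prod.fst hg
    have e2 : g • b = a := congrArg Prod.snd hg
    exact hab (smul_left_cancel g (e1.trans e2.symm))
  · by_cases hcd : c = d
    · subst hcd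
      obtain ⟨g, hg⟩ := h1 a c
      exact Or.inl (Quotient.sound ⟨g, Prod.ext hg hg⟩)
    · obtain ⟨g, hg, hg'⟩ := h a b c d hab hcd
      exact Or.inr (Quotient.sound ⟨g, Prod.ext hg hg'⟩)

end Perm

/-- A fixed point of an element normalising a cyclic group is the only one in a regular orbit,
when the element commutes with none of the group's non-trivial elements. -/
theorem eq_of_fixed_in_orbit {X : Type*} [Group X] {Ω : Type*} [MulAction X Ω] {P : Subgroup X}
    {y : X} (hy : ∀ p ∈ P, y * p * y⁻¹ ∈ P) (hc : ∀ p ∈ P, y * p = p * y → p = 1) {a b : Ω}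
    (hfree : ∀ p ∈ P, p • a = a → p = 1) (ha : y • a = a) (hb : y • b = b) {p : X} (hp : p ∈ P)
    (hab : p • a = b) : b = a := by
  have h1 : (p⁻¹ * (y * p * y⁻¹)) • a = a := by
    rw [mul_smul, mul_smul, mul_smul, inv_smul_eq_iff.2 ha.symm, hab, hb, inv_smul_eq_iff.2 hab.symm]
  have h2 := hfree _ (mul_mem (inv_mem hp) (hy p hp)) h1
  rw [inv_mul_eq_one, eq_mul_inv_iff_mul_eq] at h2
  rw [← hab, hc p hp h2.symm, one_smul]

set_option synthInstance.maxSize 2000 in
set_option synthInstance.maxHeartbeats 400000 in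
/-- Some linear form vanishes at `v` and is one at two further vectors. -/
theorem exists_form : ∀ v w w' : V3, v ≠ 0 → w ≠ 0 → w' ≠ 0 → v ≠ w → v ≠ w' →
    ∃ φ : V3, (v 0 * φ 0 + v 1 * φ 1 + v 2 * φ 2 = 0) ∧ (w 0 * φ 0 + w 1 * φ 1 + w 2 * φ 2 = 1) ∧
      (w' 0 * φ 0 + w' 1 * φ 1 + w' 2 * φ 2 = 1) := by
  decide +kernel

theorem exists_transvection {v w w' : V3} (hv : v ≠ 0) (hw : w ≠ 0) (hw' : w' ≠ 0) (h : v ≠ w)
    (h' : v ≠ w') : ∃ T : V3 ≃ₗ[ZMod 2] V3, T v = v ∧ T w = w' := by
  obtain ⟨φ, h0, h1, h2⟩ := exists_form v w w' hv hw hw' h h'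
  have hadd : ∀ x : V3, x + x = 0 := fun x => funext fun i => CharTwo.add_self_eq_zero (x i)
  let q : V3 →ₗ[ZMod 2] ZMod 2 :=
    { toFun := fun x => x 0 * φ 0 + x 1 * φ 1 + x 2 * φ 2
      map_add' := fun x y => by simp [add_mul]; ring
      map_smul' := fun c x => by simp [mul_add, mul_assoc] }
  let f : V3 →ₗ[ZMod 2] V3 := LinearMap.id + q.smulRight (w + w')
  have hq : q (w + w') = 0 := by
    rw [map_add, show q w = 1 from h1, show q w' = 1 from h2]; rfl
  have hinv : ∀ x, f (f x) = x := fun x => by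
    show x + q x • (w + w') + q (x + q x • (w + w')) • (w + w') = x
    rw [map_add, map_smul, hq, smul_zero, add_zero, add_assoc, hadd, add_zero]
  refine ⟨LinearEquiv.ofInvolutive f hinv, ?_, ?_⟩
  · show v + q v • (w + w') = v
    rw [show q v = 0 from h0, zero_smul, add_zero]
  · show w + q w • (w + w') = w'
    rw [show q w = 1 from h1, one_smul, ← add_assoc, hadd, zero_add]

/-- A faithful group on the plane of order two with a subgroup of order `21` is that subgroup or
carries the generalised character. -/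
theorem exists_norm_three {X : Type u} [Group X] [Fintype X] (ρ : X →* (V3 ≃ₗ[ZMod 2] V3))
    (hρ : Function.Injective ρ) {D : Subgroup X} (hD : Nat.card D = 21) :
    Nat.card X = 21 ∨ ∃ f : X → ℂ, Cfsg.IsGeneralizedCharacter X f ∧ Cfsg.classInner f f = 3 ∧
      Cfsg.classInner f 1 = 1 ∧ f 1 = 0 ∧ ∀ d ∈ D, ∀ g : X, f (g * d * g⁻¹) = 0 := by
  classical
  let _iV : MulAction X V3 :=
    { smul := fun g v => ρ g v
      one_smul := fun v => by show ρ 1 v = v; rw [map_one]; rfl
      mul_smul := fun g h v => by show ρ (g * h) v = ρ g (ρ h v); rw [map_mul]; rfl }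
  have hsm0 : ∀ g : X, g • (0 : V3) = 0 := fun g => map_zero (ρ g)
  have hsmne : ∀ (g : X) {v : V3}, v ≠ 0 → g • v ≠ 0 := fun g v hv h => hv (by
    have h' : g • v = g • (0 : V3) := h.trans (hsm0 g).symm
    exact smul_left_cancel g h')
  let _iΩ : MulAction X V3s :=
    { smul := fun g v => ⟨g • v.1, hsmne g v.2⟩
      one_smul := fun v => Subtype.ext (one_smul X v.1)
      mul_smul := fun g h v => Subtype.ext (mul_smul g h v.1) }
  have hΩcard : Nat.card V3s = 7 := by
    rw [Nat.card_eq_fintype_card]; decide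
  have hfaith : ∀ g : X, (∀ v : V3s, g • v = v) → g = 1 := fun g hg => hρ (by
    rw [map_one]
    refine LinearEquiv.ext fun v => ?_
    by_cases hv : v = 0
    · subst hv; exact map_zero _
    · have h := congrArg Subtype.val (hg ⟨v, hv⟩)
      change ρ g v = v at h
      simpa using h)
  have : Fact (Nat.Prime 7) := ⟨by norm_num⟩
  have : Fact (Nat.Prime 3) := ⟨by norm_num⟩
  have : Fact (Nat.Prime 2) := ⟨by norm_num⟩
  have h168 : Nat.card X ∣ 168 := card_equiv_V3 ▸ Subgroup.card_dvd_of_injective ρ hρ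
  obtain ⟨x₀, hx₀⟩ := exists_prime_orderOf_dvd_card' (G := D) 7 (by rw [hD]; norm_num)
  set x : X := (x₀ : X) with hxdef
  have hxo : orderOf x = 7 :=
    (orderOf_injective D.subtype D.subtype_injective x₀).trans hx₀
  set P := Subgroup.zpowers x with hPdef
  have hP7 : Nat.card P = 7 := by rw [Nat.card_zpowers, hxo]
  have hPD : P ≤ D := Subgroup.zpowers_le.2 x₀.2
  have hPp : IsPGroup 7 P := IsPGroup.of_card (n := 1) (by rw [hP7, pow_one])
  have hPgen : ∀ p ∈ P, p ≠ 1 → Subgroup.zpowers p = P := fun p hp hp1 => by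
    refine Subgroup.eq_of_le_of_card_ge (Subgroup.zpowers_le.2 hp) ?_
    rw [hP7, Nat.card_zpowers]
    rcases (Nat.dvd_prime (by norm_num : Nat.Prime 7)).1 (hP7 ▸ P.orderOf_dvd_natCard hp) with h | h
    · exact absurd (orderOf_eq_one_iff.1 h) hp1
    · rw [h]
  -- `P` is regular on the non-zero vectors
  have horb : ∀ v : V3s, Nat.card (orbit P v) = 7 := by
    have hdvd : ∀ v : V3s, Nat.card (orbit P v) = 1 ∨ Nat.card (orbit P v) = 7 := fun v =>
      (Nat.dvd_prime (by norm_num : Nat.Prime 7)).1 (hP7 ▸ by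
        rw [Nat.card_coe_set_eq, ← MulAction.index_stabilizer]
        exact Subgroup.index_dvd_card _)
    intro v
    refine (hdvd v).resolve_left fun hv => ?_
    have hfix : ∀ u : V3s, Nat.card (orbit P u) = 1 := by
      intro u
      refine (hdvd u).resolve_right fun hu => ?_
      have huniv : orbit P u = Set.univ := Set.eq_of_subset_of_ncard_le (Set.subset_univ _)
        (by rw [Set.ncard_univ, hΩcard, ← Nat.card_coe_set_eq, hu])
      have : orbit P v = orbit P u := orbit_eq_iff.2 (huniv ▸ Set.mem_univ v)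
      rw [this, hu] at hv
      norm_num at hv
    have hx1 : x = 1 := hfaith x fun u => by
      have hs := (Nat.card_eq_one_iff_unique.1 (hfix u)).1
      exact congrArg Subtype.val
        (hs.elim ⟨_, mem_orbit u (⟨x, Subgroup.mem_zpowers x⟩ : P)⟩ ⟨u, mem_orbit_self u⟩)
    rw [hx1, orderOf_one] at hxo
    norm_num at hxo
  have htrans : ∀ a b : V3s, ∃ p ∈ P, p • a = b := fun a b => by
    have huniv : orbit P a = Set.univ := Set.eq_of_subset_of_ncard_le (Set.subset_univ _)
      (by rw [Set.ncard_univ, hΩcard, ← Nat.card_coe_set_eq, horb a])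
    obtain ⟨p, hp⟩ := (huniv ▸ Set.mem_univ b : b ∈ orbit P a)
    exact ⟨p, p.2, hp⟩
  have hfree : ∀ (a : V3s), ∀ p ∈ P, p • a = a → p = 1 := by
    intro a p hp hpa
    by_contra hp1
    have hle : P ≤ stabilizer X a := (hPgen p hp hp1) ▸ Subgroup.zpowers_le.2 hpa
    have h1 : Nat.card (orbit P a) = 1 := Nat.card_eq_one_iff_exists.2
      ⟨⟨a, mem_orbit_self a⟩, fun ⟨b, q, hq⟩ => Subtype.ext (hq.symm.trans (hle q.2))⟩
    rw [horb a] at h1
    norm_num at h1
  -- an element with a fixed vector commuting with `x` is trivial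
  have hcomm : ∀ y : X, ∀ a : V3s, y • a = a → ∀ p ∈ P, p ≠ 1 → y * p = p * y → y = 1 := by
    intro y a hya p hp hp1 hyp
    refine hfaith y fun b => ?_
    obtain ⟨q, hq, rfl⟩ := htrans a b
    have hyq : y * q = q * y := by
      rw [← hPgen p hp hp1] at hq
      obtain ⟨i, rfl⟩ := Subgroup.mem_zpowers_iff.1 hq
      exact (Commute.zpow_right (show Commute y p from hyp) i).eq
    rw [← mul_smul, hyq, mul_smul, hya]
  -- the normaliser has odd order
  set N := Subgroup.normalizer (P : Set X) with hNdef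
  have hnormP : ∀ y ∈ N, ∀ p ∈ P, y * p * y⁻¹ ∈ P := fun y hy p hp =>
    (Subgroup.mem_normalizer_iff.1 hy p).1 hp
  have hPidx : (P.subgroupOf D).index = 3 := by
    have h3 := (P.subgroupOf D).index_mul_card
    rw [Nat.card_congr (Subgroup.subgroupOfEquivOfLe hPD).toEquiv, hP7, hD] at h3
    omega
  have hPn : (P.subgroupOf D).Normal :=
    Subgroup.normal_of_index_eq_minFac_card (by rw [hPidx, hD]; norm_num)
  have hDN : D ≤ N := (Subgroup.normal_subgroupOf_iff_le_normalizer hPD).1 hPn
  obtain ⟨a₀⟩ : Nonempty V3s := Finite.card_pos_iff.1 (by rw [hΩcard]; norm_num)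
  have hC : ∀ d : X, ∀ p ∈ P, p ≠ 1 → d * p = p * d → d ∈ P := by
    intro d p hp hp1 hdp
    obtain ⟨q, hq, hqa⟩ := htrans a₀ (d • a₀)
    have hqp : q * p = p * q := by
      rw [← hPgen p hp hp1] at hq
      obtain ⟨i, rfl⟩ := Subgroup.mem_zpowers_iff.1 hq
      exact (Commute.zpow_left (Commute.refl p) i).eq
    have h1 : q⁻¹ * d = 1 := hcomm _ a₀ (by rw [mul_smul, inv_smul_eq_iff, hqa]) p hp hp1
      (Commute.mul_left (Commute.inv_left hqp) hdp).eq
    rwa [← inv_mul_eq_one.1 h1]
  have hNodd : Odd (Nat.card N) := by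
    refine Nat.not_even_iff_odd.1 fun he => ?_
    obtain ⟨t, ht⟩ := exists_prime_orderOf_dvd_card' (G := N) 2 (even_iff_two_dvd.1 he)
    have hto : orderOf (t : X) = 2 :=
      (orderOf_injective N.subtype N.subtype_injective t).trans ht
    have htt : (t : X) * t = 1 := by rw [← pow_two, ← hto, pow_orderOf_eq_one]
    let f : V3 →ₗ[ZMod 2] V3 := (ρ t).toLinearMap + LinearMap.id
    have hadd : ∀ v : V3, v + v = 0 := fun v => funext fun i => CharTwo.add_self_eq_zero (v i)
    have hρt : ∀ v, ρ (t : X) (ρ (t : X) v) = v := fun v => by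
      show (ρ (t : X) * ρ (t : X)) v = v
      rw [← map_mul, htt, map_one]; rfl
    have hle : LinearMap.range f ≤ LinearMap.ker f := by
      rintro _ ⟨v, rfl⟩
      simp only [LinearMap.mem_ker, f, LinearMap.add_apply, LinearMap.id_apply,
        LinearEquiv.coe_coe, map_add, hρt]
      rw [add_comm (ρ (t : X) v) v, add_add_add_comm, hadd, hadd, add_zero]
    have hker : 3 ≤ Nat.card (LinearMap.ker f) := by
      have h1 := Submodule.card_eq_card_quotient_mul_card (LinearMap.ker f)
      rw [Nat.card_congr f.quotKerEquivRange.toEquiv] at h1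
      have h2 : Nat.card (LinearMap.range f) ≤ Nat.card (LinearMap.ker f) :=
        Nat.card_le_card_of_injective _ (Submodule.inclusion_injective hle)
      have h3 : Nat.card V3 = 8 := by simp [Nat.card_eq_fintype_card]
      rw [h3] at h1
      nlinarith
    have hker0 : 1 < Nat.card {v : LinearMap.ker f // v ≠ 0} := by
      rw [Nat.card_eq_fintype_card, Fintype.card_subtype_compl, Fintype.card_subtype_eq,
        ← Nat.card_eq_fintype_card]
      omega
    obtain ⟨v, w, hvw⟩ := (Finite.one_lt_card_iff_nontrivial.1 hker0).exists_pair_ne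
    have hfx : ∀ v : {v : LinearMap.ker f // v ≠ 0}, (t : X) • (v.1.1 : V3) = v.1.1 := fun v => by
      have h : ρ (t : X) v.1.1 + v.1.1 = 0 := v.1.2
      show ρ (t : X) v.1.1 = v.1.1
      calc ρ (t : X) v.1.1 = ρ (t : X) v.1.1 + (v.1.1 + v.1.1) := by rw [hadd, add_zero]
        _ = v.1.1 := by rw [← add_assoc, h, zero_add]
    let a : V3s := ⟨v.1.1, fun h => v.2 (Subtype.ext h)⟩
    let b : V3s := ⟨w.1.1, fun h => w.2 (Subtype.ext h)⟩
    obtain ⟨p, hp, hab⟩ := htrans a b
    have hta : (t : X) • a = a := Subtype.ext (hfx v)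
    have htb : (t : X) • b = b := Subtype.ext (hfx w)
    have ht1 : (t : X) ≠ 1 := fun h => by rw [h, orderOf_one] at hto; norm_num at hto
    have he' := eq_of_fixed_in_orbit (P := P) (hnormP t t.2)
      (fun q hq hqt => by
        by_contra hq1
        exact ht1 (hcomm t a hta q hq hq1 hqt))
      (hfree a) hta htb hp hab
    exact hvw (Subtype.ext (Subtype.ext (congrArg (fun q : V3s => q.1) he'.symm)))
  have hN21 : Nat.card N ∣ 21 := by
    refine (Nat.Coprime.dvd_mul_left (k := Nat.card N) (m := 8) (n := 21) ?_).1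
      ((Subgroup.card_subgroup_dvd_card N).trans h168)
    rw [show (8 : ℕ) = 2 ^ 3 by norm_num]
    exact (Nat.coprime_two_right.2 hNodd).pow_right 3
  have hND : N = D := (Subgroup.eq_of_le_of_card_ge hDN
    (hD.symm ▸ Nat.le_of_dvd (by norm_num) hN21)).symm
  -- the Sylow theorem
  obtain ⟨Q, hQ⟩ := hPp.exists_le_sylow
  have hPQ : (Q : Subgroup X) = P := by
    obtain ⟨n, hn⟩ := IsPGroup.iff_card.1 Q.isPGroup'
    refine (Subgroup.eq_of_le_of_card_ge hQ ?_).symm
    have h49 : ¬ 7 ^ 2 ∣ Nat.card X := fun h => absurd (h.trans h168) (by norm_num)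
    have hn1 : n < 2 := by
      by_contra h
      exact h49 ((pow_dvd_pow 7 (Nat.le_of_not_lt h)).trans
        (hn ▸ Subgroup.card_subgroup_dvd_card _))
    rw [hn, hP7]
    calc 7 ^ n ≤ 7 ^ 1 := Nat.pow_le_pow_right (by norm_num) (by omega)
      _ = 7 := pow_one 7
  have hXidx : Nat.card X = N.index * 21 := by
    rw [← Subgroup.index_mul_card N, show Nat.card N = 21 from hND ▸ hD]
  have hmod : N.index ≡ 1 [MOD 7] := by
    have h := card_sylow_modEq_one 7 X
    rw [Sylow.card_eq_index_normalizer Q] at h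
    rwa [hNdef, ← hPQ]
  have hidx : N.index = 1 ∨ N.index = 8 := by
    have h8 : N.index ∣ 8 := by
      refine (Nat.mul_dvd_mul_iff_right (show 0 < 21 by norm_num)).1 ?_
      rw [← hXidx]; exact h168
    have hle := Nat.le_of_dvd (by norm_num) h8
    interval_cases hi : N.index <;> revert h8 hmod <;> decide
  rcases hidx with h1 | h8
  · left; rw [hXidx, h1]
  right
  have hsurj : Function.Surjective ρ := by
    have : Finite (V3 ≃ₗ[ZMod 2] V3) := Finite.of_injective _ DFunLike.coe_injective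
    refine (hρ.bijective_of_nat_card_le ?_).2
    rw [card_equiv_V3, hXidx, h8]
  -- the action on the cosets
  let := Fintype.ofFinite (X ⧸ D)
  have h8card : Nat.card (X ⧸ D) = 8 := by
    rw [← Subgroup.index_eq_card, ← hND, h8]
  set o : X ⧸ D := ((1 : X) : X ⧸ D) with ho
  have hfix : ∀ g : X, g • o = o ↔ g ∈ D := fun g => by
    rw [ho, MulAction.Quotient.smul_mk, smul_eq_mul, mul_one, QuotientGroup.eq, mul_one,
      inv_mem_iff]
  have hfree8 : ∀ (b : X ⧸ D), b ≠ o → ∀ p ∈ P, p • b = b → p = 1 := by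
    intro b hb p hp hpb
    by_contra hp1
    obtain ⟨g, rfl⟩ := QuotientGroup.mk_surjective b
    rw [MulAction.Quotient.smul_mk, smul_eq_mul, QuotientGroup.eq, mul_inv_rev] at hpb
    have hq : g⁻¹ * p * g ∈ D := by
      have := inv_mem hpb; simpa [mul_assoc] using this
    have hqP : g⁻¹ * p * g ∈ P := by
      set d : D := ⟨_, hq⟩
      have h3 : d ^ 3 ∈ P.subgroupOf D := hPidx ▸ Subgroup.pow_index_mem _ d
      have h7 : (g⁻¹ * p * g) ^ 7 = 1 := by
        rw [show g⁻¹ * p * g = g⁻¹ * p * g⁻¹⁻¹ by rw [inv_inv], conj_pow,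
          show p ^ 7 = 1 from orderOf_dvd_iff_pow_eq_one.1 (hP7 ▸ P.orderOf_dvd_natCard hp)]
        group
      have := pow_mem (show (g⁻¹ * p * g) ^ 3 ∈ P from h3) 5
      rwa [← pow_mul, show 3 * 5 = 7 * 2 + 1 by norm_num, pow_succ, pow_mul, h7, one_pow,
        one_mul] at this
    refine hb ((QuotientGroup.eq).2 ?_)
    rw [mul_one, inv_mem_iff, ← hND, ← inv_mem_iff, hNdef]
    refine Subgroup.mem_normalizer_iff.2 fun q => ?_
    have hmaps : ∀ q ∈ P, g⁻¹ * q * g⁻¹⁻¹ ∈ P := ?_
    · refine ⟨hmaps q, fun h => ?_⟩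
      let F : P → P := fun r => ⟨g⁻¹ * r.1 * g⁻¹⁻¹, hmaps r.1 r.2⟩
      have hF : Function.Injective F := fun r r' e => by
        have e' : g⁻¹ * r.1 * g⁻¹⁻¹ = g⁻¹ * r'.1 * g⁻¹⁻¹ := congrArg Subtype.val e
        exact Subtype.ext (mul_left_cancel (mul_right_cancel e'))
      obtain ⟨⟨q', hq'⟩, hqe⟩ := (Finite.injective_iff_surjective.1 hF) ⟨_, h⟩
      have : q' = q := mul_left_cancel (mul_right_cancel (congrArg Subtype.val hqe))
      exact this ▸ hq'
    intro q hq'
    have hgq : g⁻¹ * p * g ≠ 1 := fun h => hp1 (by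
      rw [show p = g * (g⁻¹ * p * g) * g⁻¹ by group, h, mul_one, mul_inv_cancel])
    rw [← hPgen p hp hp1] at hq'
    obtain ⟨i, rfl⟩ := Subgroup.mem_zpowers_iff.1 hq'
    show g⁻¹ * p ^ i * g⁻¹⁻¹ ∈ P
    rw [← conj_zpow, inv_inv]
    exact zpow_mem hqP i
  have htrans8 : ∀ a b : X ⧸ D, a ≠ o → b ≠ o → ∃ p ∈ P, p • a = b := by
    intro a b ha hb
    have hpne : ∀ p : P, (p : X) • a ≠ o := fun p h => ha (by
      rw [← smul_left_cancel_iff (p : X), h, (hfix _).2 (hPD p.2)])
    have hbij : Function.Bijective (fun p : P => (⟨(p : X) • a, hpne p⟩ : {c : X ⧸ D // c ≠ o})) := by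
      refine (Nat.bijective_iff_injective_and_card _).2 ⟨fun p q h => ?_, ?_⟩
      · have h' : (p : X) • a = (q : X) • a := congrArg Subtype.val h
        have h'' := hfree8 a ha _ (mul_mem (inv_mem q.2) p.2)
          (by rw [mul_smul, h', inv_smul_smul])
        exact Subtype.ext (inv_mul_eq_one.1 h'').symm
      · rw [hP7, Nat.card_eq_fintype_card, Fintype.card_subtype_compl, Fintype.card_subtype_eq,
          ← Nat.card_eq_fintype_card, h8card]
    obtain ⟨p, hp⟩ := hbij.2 ⟨b, hb⟩
    exact ⟨p, p.2, congrArg Subtype.val hp⟩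
  have hXtrans8 : ∀ a b : X ⧸ D, ∃ g : X, g • a = b := fun a b => exists_smul_eq X a b
  -- transitivity on the vectors
  have hΩtrans : ∀ a b : V3s, ∃ g : X, g • a = b := fun a b => by
    obtain ⟨p, -, h⟩ := htrans a b; exact ⟨p, h⟩
  have h2V3s : ∀ a b c d : V3s, a ≠ b → c ≠ d → ∃ g : X, g • a = c ∧ g • b = d := by
    intro a b c d hab hcd
    obtain ⟨g, hg⟩ := hΩtrans a c
    have hne : c ≠ g • b := fun h => hab (smul_left_cancel g (hg.trans h))
    obtain ⟨T, hTc, hTb⟩ := exists_transvection c.2 (g • b).2 d.2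
      (fun h => hne (Subtype.ext h)) (fun h => hcd (Subtype.ext h))
    obtain ⟨k, hk⟩ := hsurj T
    refine ⟨k * g, ?_, ?_⟩
    · rw [mul_smul, hg]
      have e : ρ k c.1 = c.1 := by rw [hk, hTc]
      exact Subtype.ext e
    · rw [mul_smul]
      have e : ρ k (g • b).1 = d.1 := by rw [hk, hTb]
      exact Subtype.ext e
  have h28 : ∀ a b c d : X ⧸ D, a ≠ b → c ≠ d → ∃ g : X, g • a = c ∧ g • b = d := by
    intro a b c d hab hcd
    obtain ⟨g, hg⟩ := hXtrans8 a o
    obtain ⟨k, hk⟩ := hXtrans8 c o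
    have h1 : g • b ≠ o := fun h => hab (smul_left_cancel g (hg.trans h.symm))
    have h2 : k • d ≠ o := fun h => hcd (smul_left_cancel k (hk.trans h.symm))
    obtain ⟨p, hp, hpe⟩ := htrans8 _ _ h1 h2
    refine ⟨k⁻¹ * p * g, ?_, ?_⟩
    · rw [mul_smul, mul_smul, hg, (hfix p).2 (hPD hp), inv_smul_eq_iff, hk]
    · rw [mul_smul, mul_smul, hpe, inv_smul_smul]
  have h78 : ∀ a b : V3s × (X ⧸ D), ∃ g : X, g • a = b := by
    rintro ⟨a, a'⟩ ⟨b, b'⟩
    obtain ⟨g, hg⟩ := hXtrans8 a' o
    obtain ⟨k, hk⟩ := hXtrans8 b' o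
    obtain ⟨p, hp, hpe⟩ := htrans (g • a) (k • b)
    refine ⟨k⁻¹ * p * g, Prod.ext ?_ ?_⟩
    · show (k⁻¹ * p * g) • a = b
      rw [mul_smul, mul_smul, hpe, inv_smul_smul]
    · show (k⁻¹ * p * g) • a' = b'
      rw [mul_smul, mul_smul, hg, (hfix p).2 (hPD hp), inv_smul_eq_iff, hk]
  have h87 : ∀ a b : (X ⧸ D) × V3s, ∃ g : X, g • a = b := by
    rintro ⟨a, a'⟩ ⟨b, b'⟩
    obtain ⟨g, hg⟩ := h78 (a', a) (b', b)
    exact ⟨g, Prod.ext (congrArg Prod.snd hg) (congrArg Prod.fst hg)⟩
  set π7 := PermB.permChar X V3s with hπ7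
  set π8 := PermB.permChar X (X ⧸ D) with hπ8
  refine ⟨1 + π7 - π8, CharCore.isGeneralized_sub (CharCore.isGeneralized_add
    CharCore.isGeneralized_one (CharCore.IsCharacter.isGeneralized (PermB.isCharacter_permChar X V3s)))
    (CharCore.IsCharacter.isGeneralized (PermB.isCharacter_permChar X (X ⧸ D))), ?_, ?_, ?_, ?_⟩
  rotate_left 3
  · -- vanishing on `D`
    intro d hd g
    have hcl : ∀ (A : Type u) [Fintype A] [MulAction X A],
        PermB.permChar X A (g * d * g⁻¹) = PermB.permChar X A d := fun A _ _ =>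
      CharCore.IsCharacter.isClassFunction (PermB.isCharacter_permChar X A) d g
    have hclΩ : π7 (g * d * g⁻¹) = π7 d :=
      CharCore.IsCharacter.isClassFunction (PermB.isCharacter_permChar X V3s) d g
    simp only [Pi.add_apply, Pi.sub_apply, Pi.one_apply, hclΩ, hπ8, hcl]
    by_cases hd1 : d = 1
    · subst hd1
      simp only [hπ7, PermB.permChar]
      rw [show fixedBy V3s (1 : X) = Set.univ from Set.eq_univ_of_forall fun a => one_smul X a,
        show fixedBy (X ⧸ D) (1 : X) = Set.univ from Set.eq_univ_of_forall fun a => one_smul X a,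
        Nat.card_univ, Nat.card_univ, hΩcard, h8card]
      norm_num
    by_cases hdP : d ∈ P
    · have e7 : Nat.card (fixedBy V3s d) = 0 := by
        rw [Nat.card_eq_zero]; exact Or.inl ⟨fun a => hd1 (hfree a.1 d hdP a.2)⟩
      have e8 : Nat.card (fixedBy (X ⧸ D) d) = 1 := Nat.card_eq_one_iff_exists.2
        ⟨⟨o, (hfix d).2 hd⟩, fun a => Subtype.ext (by
          by_contra h
          exact hd1 (hfree8 a.1 h d hdP a.2))⟩
      simp only [hπ7, PermB.permChar, e7, e8]
      norm_num
    have hd3 : d ^ 3 = 1 := by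
      by_contra h
      have hm : (⟨d, hd⟩ : D) ^ 3 ∈ P.subgroupOf D := hPidx ▸ Subgroup.pow_index_mem _ _
      exact hdP (hC d _ hm h (Commute.self_pow d 3).eq)
    have hdgrp : IsPGroup 3 (Subgroup.zpowers d) := IsPGroup.of_card (n := 1) (by
      rw [Nat.card_zpowers, pow_one, orderOf_eq_prime hd3 hd1])
    have hfixz : ∀ {A : Type u} [MulAction X A] (a : A),
        a ∈ fixedPoints (Subgroup.zpowers d) A ↔ a ∈ fixedBy A d := fun {A} _ a => by
      refine ⟨fun h => h ⟨d, Subgroup.mem_zpowers d⟩, fun h q => ?_⟩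
      exact (Subgroup.zpowers_le.2 (show d ∈ stabilizer X a from h)) q.2
    have hnd := hnormP d (hDN hd)
    have hcd : ∀ p ∈ P, d * p = p * d → p = 1 := fun p hp he => by
      by_contra h; exact hdP (hC d p hp h he)
    have e7 : Nat.card (fixedBy V3s d) = 1 := by
      have hm := hdgrp.card_modEq_card_fixedPoints V3s
      have e : fixedPoints (Subgroup.zpowers d) V3s = fixedBy V3s d := by
        ext a
        refine ⟨fun h => h ⟨d, Subgroup.mem_zpowers d⟩, fun h q => ?_⟩
        exact (Subgroup.zpowers_le.2 (show d ∈ stabilizer X a from h)) q.2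
      rw [e, hΩcard] at hm
      obtain ⟨a⟩ : Nonempty (fixedBy V3s d) := by
        rw [← Finite.card_pos_iff]
        refine Nat.pos_of_ne_zero fun h => ?_
        rw [h] at hm
        exact absurd hm (by decide)
      refine Nat.card_eq_one_iff_exists.2 ⟨a, fun b => Subtype.ext ?_⟩
      obtain ⟨p, hp, hpe⟩ := htrans a.1 b.1
      exact eq_of_fixed_in_orbit hnd hcd (hfree a.1) a.2 b.2 hp hpe
    have e8 : Nat.card (fixedBy (X ⧸ D) d) = 2 := by
      have hm := hdgrp.card_modEq_card_fixedPoints (X ⧸ D)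
      rw [show fixedPoints (Subgroup.zpowers d) (X ⧸ D) = fixedBy (X ⧸ D) d from
        Set.ext fun a => hfixz a, h8card] at hm
      obtain ⟨b, hb⟩ : ∃ b : fixedBy (X ⧸ D) d, b.1 ≠ o := by
        by_contra hall
        push Not at hall
        rw [Nat.card_eq_one_iff_exists.2
          ⟨⟨o, (hfix d).2 hd⟩, fun b => Subtype.ext (hall b)⟩] at hm
        exact absurd hm (by decide)
      rw [Nat.card_eq_two_iff]
      refine ⟨⟨o, (hfix d).2 hd⟩, b, fun h => hb (congrArg Subtype.val h).symm,
        Set.eq_univ_of_forall fun c => ?_⟩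
      by_cases hc : c.1 = o
      · exact Or.inl (Subtype.ext hc)
      · obtain ⟨p, hp, hpe⟩ := htrans8 b.1 c.1 hb hc
        exact Or.inr (Subtype.ext
          (eq_of_fixed_in_orbit hnd hcd (hfree8 b.1 hb) b.2 c.2 hp hpe))
    simp only [hπ7, PermB.permChar, e7, e8]
    norm_num
  all_goals
    have hn7 : Nonempty V3s := ⟨a₀⟩
    have hnt7 : Nontrivial V3s := Finite.one_lt_card_iff_nontrivial.1 (by rw [hΩcard]; norm_num)
    have hnt8 : Nontrivial (X ⧸ D) := Finite.one_lt_card_iff_nontrivial.1 (by rw [h8card]; norm_num)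
    have c71 : Cfsg.classInner π7 1 = 1 := by
      rw [hπ7, classInner_permChar_one, card_orbits_one X V3s hΩtrans, Nat.cast_one]
    have c81 : Cfsg.classInner π8 1 = 1 := by
      rw [hπ8, classInner_permChar_one, card_orbits_one X (X ⧸ D) hXtrans8, Nat.cast_one]
    have c11 : Cfsg.classInner (1 : X → ℂ) 1 = 1 :=
      CharCore.classInner_irr_self ⟨_, CharCore.isIrrCharacter_one⟩
  · have c17 : Cfsg.classInner 1 π7 = 1 := by rw [← CharCore.conj_classInner, c71, map_one]
    have c18 : Cfsg.classInner 1 π8 = 1 := by rw [← CharCore.conj_classInner, c81, map_one]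
    have c77 : Cfsg.classInner π7 π7 = 2 := by
      rw [hπ7, classInner_permChar, card_orbits_two X V3s h2V3s hΩtrans]; norm_num
    have c88 : Cfsg.classInner π8 π8 = 2 := by
      rw [hπ8, classInner_permChar, card_orbits_two X (X ⧸ D) h28 hXtrans8]; norm_num
    have c78 : Cfsg.classInner π7 π8 = 1 := by
      rw [hπ7, hπ8, classInner_permChar, card_orbits_one X _ h78, Nat.cast_one]
    have c87 : Cfsg.classInner π8 π7 = 1 := by
      rw [hπ7, hπ8, classInner_permChar, card_orbits_one X _ h87, Nat.cast_one]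
    simp only [CharCore.classInner_sub_left, CharCore.classInner_sub_right,
      CharCore.classInner_add_left, CharCore.classInner_add_right, c11, c17, c18, c71, c81, c77,
      c88, c78, c87]
    norm_num
  · simp only [CharCore.classInner_sub_left, CharCore.classInner_add_left, c11, c71, c81]
    norm_num
  · simp only [Pi.add_apply, Pi.sub_apply, Pi.one_apply, hπ7, hπ8, PermB.permChar]
    rw [show fixedBy V3s (1 : X) = Set.univ from Set.eq_univ_of_forall fun a => one_smul X a,
      show fixedBy (X ⧸ D) (1 : X) = Set.univ from Set.eq_univ_of_forall fun a => one_smul X a,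
      Nat.card_univ, Nat.card_univ, hΩcard, h8card]
    norm_num

end

end Cfsg.Agent.Bender20
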