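import Cfsg.Agent.Bender20.NormThree
import Cfsg.Agent.Bender20.RankThreeChar
import Cfsg.Agent.TwoFusionB.StronglyEmbedded

/-!
A factor group of a strongly embedded subgroup killing the involutions and acting faithfully on the
plane of order two, with the two-point stabiliser mapping onto a subgroup of order `21`, has order
`21` (helper7).
-/

set_option autoImplicit false
set_option linter.unusedSectionVars false

namespace Cfsg.Agent.Bender20

open scoped ComplexConjugate

noncomputable section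

universe u v

/-- Inflation preserves inner products. -/
theorem classInner_comp_of_surjective {H : Type u} [Group H] [Fintype H] {X : Type v} [Group X]
    [Fintype X] {π : H →* X} (hπ : Function.Surjective π) (a b : X → ℂ) :
    Cfsg.classInner (fun h => a (π h)) (fun h => b (π h)) = Cfsg.classInner a b := by
  classical
  set n := (Finset.univ.filter fun h : H => π h = 1).card with hn
  have hfib : ∀ x : X, (Finset.univ.filter fun h : H => π h = x).card = n := fun x =>
    MonoidHom.card_fiber_eq_of_mem_range π (hπ x) ⟨1, map_one π⟩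
  have hsum : ∀ F : X → ℂ, ∑ h : H, F (π h) = (n : ℂ) * ∑ x : X, F x := by
    intro F
    rw [← Finset.sum_fiberwise_of_maps_to (g := π) (t := Finset.univ) (fun h _ => Finset.mem_univ _),
      Finset.mul_sum]
    refine Finset.sum_congr rfl fun x _ => ?_
    rw [Finset.sum_congr rfl (g := fun _ => F x) (fun h hh => by rw [(Finset.mem_filter.1 hh).2]),
      Finset.sum_const, hfib, nsmul_eq_mul]
  have hcard : (Nat.card H : ℂ) = (n : ℂ) * Nat.card X := by
    have h := hsum 1
    simpa [Nat.card_eq_fintype_card] using h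
  have hn0 : (n : ℂ) ≠ 0 := fun h => Nat.cast_ne_zero.2 Nat.card_pos.ne'
    (by rw [hcard, h, zero_mul] : (Nat.card H : ℂ) = 0)
  simp only [Cfsg.classInner]
  rw [hsum fun x => a x * conj (b x), hcard, mul_inv, mul_assoc, mul_left_comm ((Nat.card X : ℂ))⁻¹,
    inv_mul_cancel_left₀ hn0]

/-- The rank three case: the factor group has order `21`. -/
theorem card_eq_of_rank_three {G : Type u} [Group G] [Finite G] {H : Subgroup G}
    (hH : Cfsg.IsStronglyEmbedded H) (hgen : Subgroup.closure {x : G | orderOf x = 2} = ⊤)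
    {u : G} (h2t : ∀ g : G, g ∉ H → ∃ a ∈ H, ∃ b ∈ H, g = a * u * b)
    {X : Type v} [Group X] [Finite X] (π : H →* X) (hπ : Function.Surjective π)
    (hker : ∀ h : H, orderOf h = 2 → π h = 1)
    (ρ : X →* ((Fin 3 → ZMod 2) ≃ₗ[ZMod 2] (Fin 3 → ZMod 2))) (hρ : Function.Injective ρ)
    (hD : Nat.card ↥(((H ⊓ H.map (MulAut.conj u).toMonoidHom).subgroupOf H).map π) = 21) :
    Nat.card X = 21 := by
  classical
  let := Fintype.ofFinite G
  let := Fintype.ofFinite X
  refine (exists_norm_three ρ hρ hD).resolve_right fun ⟨f, hf, hnorm, hone, hf1, hfD⟩ => ?_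
  have hHne := (Involution.stronglyEmbedded_iff.1 hH).2.1
  obtain ⟨z, hz⟩ := exists_prime_orderOf_dvd_card' (G := H) 2 (even_iff_two_dvd.1 hHne)
  refine false_of_norm_three H (f := fun h => f (π h))
    (CharCore.isGeneralized_comp hf π) ?_ ?_ (by rw [map_one, hf1]) ?_ ?_ ?_
    (fun a b ha hb => TwoFusionB.isConj_involutions hH ha hb) hgen
    ((orderOf_injective H.subtype H.subtype_injective z).trans hz)
  · rw [classInner_comp_of_surjective hπ, hnorm]
  · exact (classInner_comp_of_surjective hπ f 1).trans hone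
  · intro h hh g hg
    by_contra hgH
    refine hh ?_
    obtain ⟨a, ha, b, hb, hgab⟩ := h2t g⁻¹ (fun h' => hgH (inv_inv g ▸ inv_mem h'))
    have hmem : a⁻¹ * (h : G) * a ∈ H ⊓ H.map (MulAut.conj u).toMonoidHom := by
      refine Subgroup.mem_inf.2 ⟨mul_mem (mul_mem (inv_mem ha) h.2) ha,
        ⟨b * (g * h * g⁻¹) * b⁻¹, mul_mem (mul_mem hb hg) (inv_mem hb), ?_⟩⟩
      show u * (b * (g * h * g⁻¹) * b⁻¹) * u⁻¹ = a⁻¹ * h * a
      have e : g = b⁻¹ * u⁻¹ * a⁻¹ := by rw [← inv_inv g, hgab]; group
      rw [e]; group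
    have hd : π ((⟨a, ha⟩ : H)⁻¹ * h * ⟨a, ha⟩) ∈
        ((H ⊓ H.map (MulAut.conj u).toMonoidHom).subgroupOf H).map π :=
      ⟨_, hmem, rfl⟩
    have h0 := hfD _ hd (π ⟨a, ha⟩)
    rwa [← map_mul, ← map_inv, ← map_mul,
      show (⟨a, ha⟩ : H) * ((⟨a, ha⟩ : H)⁻¹ * h * ⟨a, ha⟩) * (⟨a, ha⟩ : H)⁻¹ = h by group] at h0
  · intro s hs
    show f (π s) = 0
    rw [hker s hs, hf1]
  · intro s t hs ht
    show f (π (s * t)) = 0
    rw [map_mul, hker s hs, hker t ht, one_mul, hf1]

/-- The rank three case for any space of dimension three over the field of two elements. -/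
theorem card_eq_of_rank_three_module {G : Type u} [Group G] [Finite G] {H : Subgroup G}
    (hH : Cfsg.IsStronglyEmbedded H) (hgen : Subgroup.closure {x : G | orderOf x = 2} = ⊤)
    {u : G} (h2t : ∀ g : G, g ∉ H → ∃ a ∈ H, ∃ b ∈ H, g = a * u * b)
    {X : Type v} [Group X] [Finite X] (π : H →* X) (hπ : Function.Surjective π)
    (hker : ∀ h : H, orderOf h = 2 → π h = 1)
    {V : Type*} [AddCommGroup V] [Module (ZMod 2) V] [Finite V]
    (hV : Module.finrank (ZMod 2) V = 3) (ρ : X →* (V ≃ₗ[ZMod 2] V)) (hρ : Function.Injective ρ)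
    (hD : Nat.card ↥(((H ⊓ H.map (MulAut.conj u).toMonoidHom).subgroupOf H).map π) = 21) :
    Nat.card X = 21 := by
  have : Module.Finite (ZMod 2) V := Module.Finite.of_finite
  let e : V ≃ₗ[ZMod 2] (Fin 3 → ZMod 2) := (Module.finBasisOfFinrankEq (ZMod 2) V hV).equivFun
  let ρ' : X →* ((Fin 3 → ZMod 2) ≃ₗ[ZMod 2] (Fin 3 → ZMod 2)) :=
    { toFun := fun g => e.symm.trans ((ρ g).trans e)
      map_one' := LinearEquiv.ext fun v => by simp
      map_mul' := fun g h => LinearEquiv.ext fun v => by simp }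
  refine card_eq_of_rank_three hH hgen h2t π hπ hker ρ' (fun g h hgh => hρ ?_) hD
  refine LinearEquiv.ext fun v => e.injective ?_
  simpa [ρ'] using LinearEquiv.congr_fun hgh (e v)

end

end Cfsg.Agent.Bender20
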