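import Cfsg.Agent.Bender20.CCSubgroup
import Cfsg.Agent.Lib.CharClifford.Burnside
import Cfsg.Agent.Lib.Thompson.Cores
import Cfsg.Agent.Lib.Involution.Dihedral
import Cfsg.Agent.ZStar.Main
import Cfsg.Agent.TwoFusion36.Isolated

/-!
An involution class of the size of an abelian subgroup containing the centralisers of its non-trivial
elements and with normaliser of odd order consists of commuting involutions (helper7).
-/

set_option autoImplicit false
set_option linter.unusedSectionVars false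

namespace Cfsg.Agent.Bender20

open scoped ComplexConjugate Classical

noncomputable section

universe u

variable {H : Type u} [Group H] {F : Subgroup H}

/-- A normal subgroup of odd order meets the subgroup trivially. -/
theorem IsCC.inf_eq_bot_of_odd [Finite H] (hF : IsCC F)
    (hN : Odd (Nat.card (Subgroup.normalizer (F : Set H)))) {z : H} (hz : orderOf z = 2) (N : Subgroup H)
    [N.Normal] (hNodd : Odd (Nat.card N)) : F ⊓ N = ⊥ := by
  by_contra hne
  obtain ⟨p, hp, hpd⟩ := Nat.exists_prime_and_dvd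
    (show Nat.card ↥(F ⊓ N) ≠ 1 from fun h => hne (Subgroup.card_eq_one.1 h))
  have : Fact p.Prime := ⟨hp⟩
  obtain ⟨x, hx⟩ := exists_prime_orderOf_dvd_card' p hpd
  have hx1 : (x : H) ≠ 1 := fun h => by
    rw [show x = 1 from Subtype.ext h, orderOf_one] at hx
    exact hp.one_lt.ne hx
  let y : N := ⟨x, x.2.2⟩
  have hy : IsPGroup p (Subgroup.zpowers y) := by
    refine IsPGroup.of_card (n := 1) ?_
    rw [Nat.card_zpowers, pow_one, ← hx, ← orderOf_injective N.subtype N.subtype_injective y,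
      ← orderOf_injective (F ⊓ N).subtype (F ⊓ N).subtype_injective x]
    rfl
  obtain ⟨P, hP⟩ := hy.exists_le_sylow
  have hyP : y ∈ (P : Subgroup N) := hP (Subgroup.mem_zpowers y)
  have : Nontrivial (P : Subgroup N) :=
    ⟨⟨⟨y, hyP⟩, 1, fun h => hx1 (congrArg (fun q : (P : Subgroup N) => ((q : N) : H)) h)⟩⟩
  have := P.2.center_nontrivial
  obtain ⟨c, hc⟩ := exists_ne (1 : Subgroup.center (P : Subgroup N))
  set cc : H := (((c : (P : Subgroup N)) : N) : H)
  have hcc1 : cc ≠ 1 := fun h => hc (Subtype.ext (Subtype.ext (Subtype.ext h)))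
  have hcomm : ∀ q : (P : Subgroup N), ((q : N) : H) * cc = cc * ((q : N) : H) := fun q =>
    congrArg (fun r : (P : Subgroup N) => ((r : N) : H)) (Subgroup.mem_center_iff.1 c.2 q)
  have hccF : cc ∈ F := hF.mem_of_commute x.2.1 hx1 (hcomm ⟨y, hyP⟩).symm
  have hPF : (P : Subgroup N).map N.subtype ≤ F := by
    rintro _ ⟨q, hq, rfl⟩
    exact hF.mem_of_commute hccF hcc1 (hcomm ⟨q, hq⟩)
  have htop := Sylow.normalizer_sup_eq_top P
  have hle : Subgroup.normalizer (((P : Subgroup N).map N.subtype : Subgroup H) : Set H) ≤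
      Subgroup.normalizer (F : Set H) := fun g hg =>
    hF.mem_normalizer x.2.1 hx1 (hPF ((Subgroup.mem_normalizer_iff.1 hg _).1 ⟨y, hyP, rfl⟩))
  have h1 : Nat.card H ∣ Nat.card (Subgroup.normalizer (F : Set H)) * Nat.card N := by
    have h2 : Subgroup.normalizer (F : Set H) ⊔ N = ⊤ :=
      top_le_iff.1 (htop ▸ sup_le_sup_right hle _)
    have h3 := Thompson.card_sup_dvd_mul (Subgroup.normalizer (F : Set H)) N
    rwa [h2, Subgroup.card_top] at h3
  have h2 : 2 ∣ Nat.card H := hz ▸ orderOf_dvd_natCard z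
  exact Nat.not_even_iff_odd.2 (hN.mul hNodd) (even_iff_two_dvd.2 (h2.trans h1))

/-- The subgroup is a Hall subgroup. -/
theorem IsCC.not_dvd_index [Finite H] (hF : IsCC F) {p : ℕ} (hp : p.Prime) (hpF : p ∣ Nat.card F) :
    ¬ p ∣ F.index := by
  have : Fact p.Prime := ⟨hp⟩
  obtain ⟨x, hx⟩ := exists_prime_orderOf_dvd_card' p hpF
  have hx1 : (x : H) ≠ 1 := fun h => by
    rw [show x = 1 from Subtype.ext h, orderOf_one] at hx
    exact hp.one_lt.ne hx
  have hy : IsPGroup p (Subgroup.zpowers (x : H)) := by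
    refine IsPGroup.of_card (n := 1) ?_
    rw [Nat.card_zpowers, pow_one, ← hx]
    exact orderOf_injective F.subtype F.subtype_injective x
  obtain ⟨P, hP⟩ := hy.exists_le_sylow
  have hxP : (x : H) ∈ (P : Subgroup H) := hP (Subgroup.mem_zpowers _)
  have : Nontrivial (P : Subgroup H) :=
    ⟨⟨⟨x, hxP⟩, 1, fun h => hx1 (congrArg Subtype.val h)⟩⟩
  have := P.2.center_nontrivial
  obtain ⟨c, hc⟩ := exists_ne (1 : Subgroup.center (P : Subgroup H))
  have hc1 : ((c : (P : Subgroup H)) : H) ≠ 1 := fun h => hc (Subtype.ext (Subtype.ext h))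
  have hcomm : ∀ q : (P : Subgroup H), (q : H) * (c : (P : Subgroup H)) = (c : (P : Subgroup H)) * (q : H) :=
    fun q => congrArg Subtype.val (Subgroup.mem_center_iff.1 c.2 q)
  have hcF := hF.mem_of_commute x.2 hx1 (hcomm ⟨x, hxP⟩).symm
  have hPF : (P : Subgroup H) ≤ F := fun q hq => hF.mem_of_commute hcF hc1 (hcomm ⟨q, hq⟩)
  exact fun h => P.not_dvd_index (h.trans (Subgroup.index_dvd_of_le hPF))

/-- An involution whose class has the size of the subgroup commutes with a second conjugate. -/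
theorem exists_commute_conj_ne [Finite H] (hF : IsCC F) (hF1 : F ≠ ⊥)
    (hN : Odd (Nat.card (Subgroup.normalizer (F : Set H)))) {z : H} (hz : orderOf z = 2)
    (hk : (Subgroup.centralizer ({z} : Set H)).index = Nat.card F) :
    ∃ g : H, Commute z (g * z * g⁻¹) ∧ g * z * g⁻¹ ≠ z := by
  by_contra hiso
  push Not at hiso
  have hI : Cfsg.IsIsolatedInvolution z := ⟨hz, hiso⟩
  obtain ⟨N, hNn, hNodd, hNc⟩ := ZStar.zStar hz fun g => by
    rw [show z * g * z⁻¹ * g⁻¹ = z * (g * z * g⁻¹ * z) * z⁻¹ by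
      rw [show z * (g * z * g⁻¹ * z) * z⁻¹ = z * g * z * g⁻¹ by group, Involution.inv_of_orderOf hz],
      Involution.orderOf_conj]
    exact TwoFusion36.odd_conj_mul hI g
  have hsup : N ⊔ Subgroup.centralizer ({z} : Set H) = ⊤ := by
    refine (Subgroup.eq_top_iff' _).2 fun g => ?_
    set y := g * z * g⁻¹ with hy
    have hy2 : orderOf y = 2 := by rw [hy, Involution.orderOf_conj, hz]
    have hzy : z * y ∈ N := by
      have := hNc g
      rwa [Involution.inv_of_orderOf hz, show z * g * z * g⁻¹ = z * y by rw [hy]; group] at this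
    obtain ⟨m, hm⟩ := Involution.exists_conj_of_odd (Involution.mul_self_of_orderOf hz)
      (Involution.mul_self_of_orderOf hy2)
      (hNodd.of_dvd_nat (N.orderOf_dvd_natCard hzy))
    have hzz : z * z = 1 := Involution.mul_self_of_orderOf hz
    have hw : ((z * y) ^ m)⁻¹ * g ∈ Subgroup.centralizer ({z} : Set H) := by
      rw [Subgroup.mem_centralizer_singleton_iff]
      have h1 : (z * y) ^ m * z * ((z * y) ^ m)⁻¹ = g * z * g⁻¹ := hm
      calc ((z * y) ^ m)⁻¹ * g * z = ((z * y) ^ m)⁻¹ * (g * z * g⁻¹) * g := by group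
        _ = z * (((z * y) ^ m)⁻¹ * g) := by rw [← h1]; group
    have := mul_mem (Subgroup.mem_sup_left (T := Subgroup.centralizer ({z} : Set H)) (zpow_mem hzy m))
      (Subgroup.mem_sup_right (S := N) hw)
    rwa [mul_inv_cancel_left] at this
  have hdvd : Nat.card F ∣ Nat.card N := by
    rw [← hk]
    have h1 := Thompson.card_sup_dvd_mul (Subgroup.centralizer ({z} : Set H)) N
    rw [sup_comm, hsup, Subgroup.card_top,
      ← (Subgroup.centralizer ({z} : Set H)).index_mul_card, mul_comm] at h1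
    exact (Nat.mul_dvd_mul_iff_left Nat.card_pos).1 h1
  obtain ⟨p, hp, hpd⟩ := Nat.exists_prime_and_dvd
    (show Nat.card F ≠ 1 from fun h => hF1 (Subgroup.card_eq_one.1 h))
  refine hF.not_dvd_index hp hpd ((hpd.trans hdvd).trans ?_)
  have h0 := hF.inf_eq_bot_of_odd hN hz N hNodd
  have h1 : N.relIndex (F ⊔ N) = Nat.card F := by
    rw [Subgroup.relIndex_sup_right, ← Subgroup.inf_relIndex_right, inf_comm, h0,
      Subgroup.relIndex_bot_left]
  have h2 : Nat.card N * Nat.card F ∣ F.index * Nat.card F := by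
    rw [Subgroup.index_mul_card, ← h1, ← Subgroup.relIndex_bot_left N,
      Subgroup.relIndex_mul_relIndex _ _ _ bot_le le_sup_right, Subgroup.relIndex_bot_left]
    exact Subgroup.card_subgroup_dvd_card _
  exact (Nat.mul_dvd_mul_iff_right Nat.card_pos).1 h2

variable [Fintype H]

/-- The value at an element of the permutation character on the cosets of a subgroup. -/
theorem indFun_one_apply (S : Subgroup H) (g : H) :
    Cfsg.indFun S (1 : S → ℂ) g =
      (Nat.card S : ℂ)⁻¹ * ((Finset.univ.filter fun x : H => x⁻¹ * g * x ∈ S).card : ℂ) := by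
  rw [CharInd.indFun_apply, Finset.card_filter, Nat.cast_sum]
  congr 1
  refine Finset.sum_congr rfl fun x _ => ?_
  by_cases hx : x⁻¹ * g * x ∈ S
  · rw [if_pos hx, CharInd.extendByZero_mem _ hx]; simp
  · rw [if_neg hx, CharInd.extendByZero_notMem _ hx]; simp

/-- The class of an involution of the size of an abelian subgroup with small centralisers and odd
normaliser consists of commuting elements. -/
theorem commute_conj_of_regular_abelian (hF : IsCC F) (hF1 : F ≠ ⊥)
    (hN : Odd (Nat.card (Subgroup.normalizer (F : Set H)))) {z : H} (hz : orderOf z = 2)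
    (hk : (Subgroup.centralizer ({z} : Set H)).index = Nat.card F) (g : H) :
    Commute z (g * z * g⁻¹) := by
  set S := Subgroup.centralizer ({z} : Set H) with hS
  set k := Nat.card F with hk'
  have hFodd : Odd k := hN.of_dvd_nat (Subgroup.card_dvd_of_le Subgroup.le_normalizer)
  have hk2 : 2 ≤ k := (Subgroup.one_lt_card_iff_ne_bot F).2 hF1
  have hFnz : ∀ f ∈ F, f ≠ 1 → ¬ IsConj f z := fun f hf _ hc => by
    obtain ⟨c, hc'⟩ := isConj_iff.1 hc
    have h1 : orderOf f = 2 := by rw [← hz, ← hc', Involution.orderOf_conj]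
    have h2 : 2 ∣ k := h1 ▸ F.orderOf_dvd_natCard hf
    exact Nat.not_even_iff_odd.2 hFodd (even_iff_two_dvd.2 h2)
  have hFS : ∀ f ∈ F, f ∈ S → f = 1 := fun f hf hfS => by
    by_contra h1
    have hzF : z ∈ F := hF.mem_of_commute hf h1 (Subgroup.mem_centralizer_singleton_iff.1 hfS).symm
    exact Nat.not_even_iff_odd.2 hFodd (even_iff_two_dvd.2 (hz ▸ F.orderOf_dvd_natCard hzF))
  have hS0 : (Nat.card S : ℂ) ≠ 0 := Nat.cast_ne_zero.2 Nat.card_pos.ne'
  have hHS : Nat.card H = k * Nat.card S := by rw [← hk, Subgroup.index_mul_card]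
  -- every element is a product of one of `F` and one of `S`
  have hFmul : ∀ x : H, ∃ f ∈ F, ∃ s ∈ S, x = f * s := by
    intro x
    let φ : F × S → H := fun q => (q.1 : H) * q.2
    have hinj : Function.Injective φ := fun a b e => by
      have e' : (a.1 : H) * a.2 = (b.1 : H) * b.2 := e
      have h1 : (b.1 : H)⁻¹ * a.1 = b.2 * (a.2 : H)⁻¹ := by
        rw [eq_mul_inv_iff_mul_eq, mul_assoc, inv_mul_eq_iff_eq_mul, e']
      have h2 := hFS _ (mul_mem (inv_mem b.1.2) a.1.2) (h1 ▸ mul_mem b.2.2 (inv_mem a.2.2))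
      rw [inv_mul_eq_one] at h2
      refine Prod.ext (Subtype.ext h2.symm) (Subtype.ext ?_)
      rw [h2] at e'
      exact mul_left_cancel e'
    have hbij := (Fintype.bijective_iff_injective_and_card φ).2 ⟨hinj, by
      rw [Fintype.card_prod, ← Nat.card_eq_fintype_card, ← Nat.card_eq_fintype_card,
        ← Nat.card_eq_fintype_card, hHS, hk']⟩
    obtain ⟨⟨f, s⟩, e⟩ := hbij.2 x
    exact ⟨f, f.2, s, s.2, e.symm⟩
  -- the permutation character
  set π := Cfsg.indFun S (1 : S → ℂ) with hπ
  have hπchar : Cfsg.IsCharacter H π := CharInd.isCharacter_indFun S CharCore.isCharacter_one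
  have hπF : ∀ f : F, π f = if f = 1 then (k : ℂ) else 0 := by
    intro f
    rw [hπ, indFun_one_apply]
    by_cases hf : f = 1
    · subst hf
      rw [if_pos rfl, Finset.filter_true_of_mem (fun x _ => by simp), Finset.card_univ,
        ← Nat.card_eq_fintype_card, hHS]
      push_cast
      field_simp
    · rw [if_neg hf, Finset.card_eq_zero.2, Nat.cast_zero, mul_zero]
      refine Finset.filter_eq_empty_iff.2 fun x _ hx => ?_
      obtain ⟨f', hf', s, hs, rfl⟩ := hFmul x
      have h2 : s * ((f' * s)⁻¹ * f * (f' * s)) * s⁻¹ = (f : H) := by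
        rw [show s * ((f' * s)⁻¹ * f * (f' * s)) * s⁻¹ = f'⁻¹ * (f * f') by group,
          hF.comm _ f.2 _ hf', inv_mul_cancel_left]
      exact hf (Subtype.ext (hFS _ f.2 (h2 ▸ mul_mem (mul_mem hs hx) (inv_mem hs))))
  choose M hM using fun ψ : Cfsg.IrrCharacter H =>
    CharCore.IsCharacter.exists_classInner_irr_eq_natCast hπchar ψ
  choose A hA using fun (ψ : Cfsg.IrrCharacter H) (l : Cfsg.IrrCharacter F) =>
    mult_natCast (CharCore.irr_isCharacter ψ) l
  have hπsum : ∀ x, π x = ∑ ψ : Cfsg.IrrCharacter H, (M ψ : ℂ) * (ψ : H → ℂ) x := fun x => by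
    conv_lhs => rw [CharCore.IsCharacter.eq_sum_classInner hπchar]
    simp [hM]
  have hMA : ∀ l : Cfsg.IrrCharacter F, ∑ ψ : Cfsg.IrrCharacter H, M ψ * A ψ l = 1 := by
    intro l
    have h1 : Cfsg.classInner (fun f : F => π f) (l : F → ℂ) = 1 := by
      simp only [Cfsg.classInner, hπF, ite_mul, zero_mul, Finset.sum_ite_eq', Finset.mem_univ, if_true,
        irr_degree_one hF, map_one, mul_one]
      rw [inv_mul_cancel₀]
      exact Nat.cast_ne_zero.2 (by omega)
    have h2 : (fun f : F => π f) =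
        ∑ ψ : Cfsg.IrrCharacter H, (M ψ : ℂ) • fun f : F => (ψ : H → ℂ) f := by
      funext f; simp [hπsum]
    rw [h2, CharCore.classInner_sum_left] at h1
    simp only [CharCore.classInner_smul_left] at h1
    have h3 : ∑ ψ : Cfsg.IrrCharacter H, (M ψ : ℂ) * (A ψ l : ℂ) = 1 := by
      rw [← h1]
      exact Finset.sum_congr rfl fun ψ _ => by rw [← hA]; rfl
    exact_mod_cast h3
  have huniq : ∀ l, ∃ ψ, M ψ * A ψ l = 1 ∧ ∀ ψ', ψ' ≠ ψ → M ψ' * A ψ' l = 0 := by
    intro l
    obtain ⟨ψ, -, hψ⟩ := Finset.exists_ne_zero_of_sum_ne_zero (by rw [hMA l]; exact one_ne_zero)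
    have hle : M ψ * A ψ l ≤ 1 := hMA l ▸
      Finset.single_le_sum (fun i _ => Nat.zero_le (M i * A i l)) (Finset.mem_univ ψ)
    refine ⟨ψ, by omega, fun ψ' hne => ?_⟩
    have h := hMA l
    rw [← Finset.add_sum_erase _ _ (Finset.mem_univ ψ), show M ψ * A ψ l = 1 by omega,
      add_eq_left, Finset.sum_eq_zero_iff] at h
    exact h ψ' (Finset.mem_erase.2 ⟨hne, Finset.mem_univ _⟩)
  choose c hc hc0 using huniq
  have hcM : ∀ l, M (c l) = 1 ∧ A (c l) l = 1 := fun l => mul_eq_one.1 (hc l)
  have hceq : ∀ {ψ l}, M ψ = 1 → A ψ l ≠ 0 → c l = ψ := by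
    intro ψ l hM1 hA1
    by_contra hne
    have := hc0 l ψ (Ne.symm hne)
    rw [hM1, one_mul] at this
    exact hA1 this
  have hAc : ∀ l' l, A (c l') l = if c l = c l' then 1 else 0 := by
    intro l' l
    split_ifs with h
    · rw [← h]; exact (hcM l).2
    · by_contra hne
      exact h (hceq (hcM l').1 hne)
  -- the principal character
  let one : Cfsg.IrrCharacter H := ⟨1, CharCore.isIrrCharacter_one⟩
  have hc1 : c (trivF F) = one := by
    have h1 : M one = 1 := by
      have h := hM one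
      rw [hπ, CharInd.classInner_indFun_left S _ (CharCore.irr_isClassFunction one)] at h
      have h' : Cfsg.classInner (1 : S → ℂ) (fun x : S => (one : H → ℂ) x) = 1 :=
        CharCore.classInner_irr_self ⟨_, CharCore.isIrrCharacter_one⟩
      rw [h'] at h
      exact_mod_cast h.symm
    have h2 : A one (trivF F) = 1 := by
      have h := hA one (trivF F)
      have h' : mult ((one : Cfsg.IrrCharacter H) : H → ℂ) (trivF F) = 1 :=
        CharCore.classInner_irr_self (trivF F)
      rw [h'] at h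
      exact_mod_cast h.symm
    exact hceq h1 (by omega)
  have hcne : ∀ l, l ≠ trivF F → c l ≠ one := by
    intro l hl h
    have h1 := hA (c l) l
    rw [(hcM l).2, h] at h1
    have h2 : mult ((one : Cfsg.IrrCharacter H) : H → ℂ) l = 0 :=
      CharCore.classInner_irr_of_ne (χ := trivF F) (Ne.symm hl)
    rw [h2] at h1
    simp at h1
  -- the constituents have equal values at the identity and at `z`
  have hsame : ∀ l l', l ≠ trivF F → l' ≠ trivF F → ∀ x : H, (∀ f ∈ F, f ≠ 1 → ¬ IsConj f x) →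
      (c l : H → ℂ) x = (c l' : H → ℂ) x := by
    intro l l' hl hl' x hx
    by_cases he : c l = c l'
    · rw [he]
    have hinv : ∀ (y : Subgroup.normalizer (F : Set H)) (m m' : Cfsg.IrrCharacter F),
        cjChar y m = m' → c m' = c m := fun y m m' e => by
      refine hceq (hcM m).1 ?_
      have h : (A (c m) m' : ℂ) = A (c m) m := by
        rw [← hA, ← hA, ← e, mult_cjChar (CharCore.irr_isClassFunction _)]
      rw [Nat.cast_inj.1 h, (hcM m).2]
      exact one_ne_zero
    have hnorm := sum_mult_sub_sq hF hl hl' (fun y e => he (hinv y l l' e).symm)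
      (fun y e => he (hinv y l' l e))
    simp only [hA, map_sub, map_natCast] at hnorm
    have hsq : ∑ ψ : Cfsg.IrrCharacter H, ((A ψ l : ℤ) - A ψ l') ^ 2 = 2 := by
      apply Int.cast_injective (α := ℂ)
      push_cast
      rw [← hnorm]
      exact Finset.sum_congr rfl fun ψ _ => by ring
    have hl1 : (A (c l) l : ℤ) - A (c l) l' = 1 := by
      rw [hAc, hAc, if_pos rfl, if_neg (Ne.symm he)]; norm_num
    have hl2 : (A (c l') l : ℤ) - A (c l') l' = -1 := by
      rw [hAc, hAc, if_pos rfl, if_neg he]; norm_num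
    have hsplit : ∀ (f : Cfsg.IrrCharacter H → ℂ), (∀ ψ, ψ ≠ c l → ψ ≠ c l' → f ψ = 0) →
        ∑ ψ, f ψ = f (c l) + f (c l') := fun f hf =>
      Fintype.sum_eq_add _ _ he fun ψ hψ => hf ψ hψ.1 hψ.2
    have hrest : ∀ ψ, ψ ≠ c l → ψ ≠ c l' → (A ψ l : ℤ) - A ψ l' = 0 := by
      intro ψ h1 h2
      have hsum := Finset.sum_le_sum_of_subset_of_nonneg
        (Finset.subset_univ ({c l, c l', ψ} : Finset (Cfsg.IrrCharacter H)))
        (f := fun χ => ((A χ l : ℤ) - A χ l') ^ 2) (fun i _ _ => sq_nonneg _)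
      rw [hsq, Finset.sum_insert (by simp [he, Ne.symm h1]), Finset.sum_pair (Ne.symm h2), hl1, hl2]
        at hsum
      have : ((A ψ l : ℤ) - A ψ l') ^ 2 ≤ 0 := by linarith
      exact sq_eq_zero_iff.1 (le_antisymm this (sq_nonneg _))
    have horth := sum_mult_sub_mul hF l l' hx
    simp only [hA] at horth
    rw [hsplit _ (fun ψ h1 h2 => by
      have h : ((A ψ l : ℂ) - A ψ l') = 0 := by exact_mod_cast hrest ψ h1 h2
      rw [h, zero_mul])] at horth
    have e1 : (A (c l) l : ℂ) - A (c l) l' = 1 := by exact_mod_cast hl1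
    have e2 : (A (c l') l : ℂ) - A (c l') l' = -1 := by exact_mod_cast hl2
    rw [e1, e2, one_mul, neg_one_mul, add_neg_eq_zero] at horth
    exact (starRingEnd ℂ).injective horth
  obtain ⟨l₀, hl₀⟩ : ∃ l, l ≠ trivF F := by
    by_contra hall
    push Not at hall
    have h := CharCore.sum_degree_sq (G := F)
    simp only [irr_degree_one hF, one_pow, Finset.sum_const, nsmul_eq_mul, mul_one] at h
    have h' : (Finset.univ : Finset (Cfsg.IrrCharacter F)).card = k := by exact_mod_cast h
    have : (Finset.univ : Finset (Cfsg.IrrCharacter F)).card ≤ 1 :=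
      Finset.card_le_one.2 fun a _ b _ => (hall a).trans (hall b).symm
    omega
  obtain ⟨⟨χ, d, ρ, hρ, hχ⟩, hχc⟩ : ∃ ψ, ψ = c l₀ := ⟨_, rfl⟩
  have hχ' : (c l₀ : H → ℂ) = ρ.character := (congrArg Subtype.val hχc).symm.trans hχ.symm
  have hd0 : (c l₀ : H → ℂ) 1 = d := by
    rw [hχ']; simp
  have hone : ∀ f ∈ F, f ≠ 1 → ¬ IsConj f (1 : H) := fun f _ hf h => hf (isConj_one_right.1 h.symm)
  set L := (Finset.univ : Finset (Cfsg.IrrCharacter F)).erase (trivF F) with hL
  have hLcard : L.card = k - 1 := by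
    have h := CharCore.sum_degree_sq (G := F)
    simp only [irr_degree_one hF, one_pow, Finset.sum_const, nsmul_eq_mul, mul_one] at h
    have h' : (Finset.univ : Finset (Cfsg.IrrCharacter F)).card = k := by exact_mod_cast h
    rw [hL, Finset.card_erase_of_mem (Finset.mem_univ _), h']
  have hdvd : d ∣ k - 1 := by
    rw [← hLcard, Finset.card_eq_sum_card_image c L]
    refine Finset.dvd_sum fun ψ hψ => ?_
    obtain ⟨l, hl, rfl⟩ := Finset.mem_image.1 hψ
    have hl' := (Finset.mem_erase.1 hl).1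
    have hdeg := sum_mult hF (CharCore.irr_isCharacter (c l))
    rw [hsame l l₀ hl' hl₀ 1 hone, hd0, ← Finset.add_sum_erase _ _ (Finset.mem_univ (trivF F)), ← hL] at hdeg
    simp only [hA, hAc, hc1, if_neg (Ne.symm (hcne l hl')), Nat.cast_zero, zero_add] at hdeg
    rw [← Nat.cast_sum, Nat.cast_inj, Finset.sum_boole, Nat.cast_id] at hdeg
    exact dvd_of_eq hdeg.symm
  have hcop : Nat.Coprime k d := Nat.Coprime.coprime_dvd_right hdvd
    (by rw [Nat.coprime_self_sub_right (by omega)]; exact Nat.coprime_one_right k)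
  have hirr : ρ.IsIrreducible := hρ
  have hcls : Nat.card (ConjClasses.mk z).carrier = k := by
    rw [← hk, ← ConjAct.orbit_eq_carrier_conjClasses z, Nat.card_coe_set_eq, ← MulAction.index_stabilizer,
      ConjAct.stabilizer_eq_centralizer]
    rfl
  have hdpos : (0 : ℕ) < d := by
    have := CharCore.finrank_pos_of_irreducible ρ
    rwa [Module.finrank_fin_fun] at this
  have hdC : (d : ℂ) ≠ 0 := Nat.cast_ne_zero.2 hdpos.ne'
  obtain ⟨e, he, hze⟩ : ∃ e : ℤ, (e = 0 ∨ e = 1 ∨ e = -1) ∧ (c l₀ : H → ℂ) z = e * d := by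
    rw [hχ']
    rcases CharClifford.character_eq_zero_or_scalar ρ z (by rwa [hcls, Module.finrank_fin_fun]) with h | ⟨a, ha⟩
    · exact ⟨0, Or.inl rfl, by simp [h]⟩
    · have h1 : (a * a) • (1 : Module.End ℂ (Fin d → ℂ)) = 1 := by
        have h := map_mul ρ z z
        rw [Involution.mul_self_of_orderOf hz, map_one, ha, smul_mul_smul_comm, mul_one] at h
        exact h.symm
      have h2 := congrArg (LinearMap.trace ℂ (Fin d → ℂ)) h1
      rw [map_smul, LinearMap.trace_one, smul_eq_mul, Module.finrank_fin_fun] at h2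
      have h3 : a * a = 1 := mul_right_cancel₀ hdC (by rw [one_mul]; exact h2)
      have hv : ρ.character z = a * d := by
        simp [Representation.character, ha, LinearMap.trace_one]
      rcases mul_self_eq_one_iff.1 h3 with rfl | rfl
      · exact ⟨1, Or.inr (Or.inl rfl), by simp [hv]⟩
      · exact ⟨-1, Or.inr (Or.inr rfl), by simp [hv]⟩
  have hπz : π z = 1 + ((k - 1 : ℕ) : ℂ) * e := by
    have hA1 : ∀ ψ : Cfsg.IrrCharacter H, (ψ : H → ℂ) 1 = ∑ l : Cfsg.IrrCharacter F, (A ψ l : ℂ) := fun ψ => by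
      rw [← sum_mult hF (CharCore.irr_isCharacter ψ)]
      simp only [hA]
    have h1 : π z = ∑ l : Cfsg.IrrCharacter F, (c l : H → ℂ) z / (c l : H → ℂ) 1 := by
      rw [hπsum]
      calc ∑ ψ, (M ψ : ℂ) * (ψ : H → ℂ) z
          = ∑ ψ : Cfsg.IrrCharacter H, ∑ l : Cfsg.IrrCharacter F,
              ((M ψ * A ψ l : ℕ) : ℂ) * ((ψ : H → ℂ) z / (ψ : H → ℂ) 1) := by
            refine Finset.sum_congr rfl fun ψ _ => ?_
            simp only [Nat.cast_mul]
            rw [← Finset.sum_mul, ← Finset.mul_sum, ← hA1]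
            field_simp [CharCore.irr_apply_one_ne_zero ψ]
        _ = _ := by
            rw [Finset.sum_comm]
            refine Finset.sum_congr rfl fun l _ => ?_
            rw [Fintype.sum_eq_single (c l) fun ψ hψ => by rw [hc0 l ψ hψ, Nat.cast_zero, zero_mul], hc,
              Nat.cast_one, one_mul]
    rw [h1, ← Finset.add_sum_erase _ _ (Finset.mem_univ (trivF F)), ← hL, hc1,
      Finset.sum_congr rfl (g := fun _ => (e : ℂ)) (fun l hl => ?_)]
    · simp [one, hLcard]
    · rw [hsame l l₀ (Finset.mem_erase.1 hl).1 hl₀ z hFnz, hsame l l₀ (Finset.mem_erase.1 hl).1 hl₀ 1 hone,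
        hze, hd0, mul_div_cancel_right₀ _ hdC]
  set X := Finset.univ.filter fun x : H => x⁻¹ * z * x ∈ S with hX
  have hXz : ((X.card : ℤ)) = (Nat.card S : ℤ) * (1 + ((k - 1 : ℕ) : ℤ) * e) := by
    rw [hπ, indFun_one_apply, ← hX, inv_mul_eq_iff_eq_mul₀ hS0] at hπz
    apply Int.cast_injective (α := ℂ)
    push_cast
    exact hπz
  have hSpos : (0 : ℤ) < Nat.card S := by exact_mod_cast Nat.card_pos
  have hk1 : ((k - 1 : ℕ) : ℤ) = (k : ℤ) - 1 := by omega
  have hmemX : ∀ x, x ∈ X ↔ Commute z (x⁻¹ * z * x) := fun x => by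
    rw [hX, Finset.mem_filter, hS, Subgroup.mem_centralizer_singleton_iff]
    exact ⟨fun h => h.2.symm, fun h => ⟨Finset.mem_univ _, h.symm⟩⟩
  rcases he with rfl | rfl | rfl
  · exfalso
    obtain ⟨w, hwc, hwne⟩ := exists_commute_conj_ne hF hF1 hN hz hk
    have hsub : (Finset.univ.filter fun x : H => x ∈ S) ⊆ X := fun x hx => by
      rw [hmemX, mul_assoc, ← Subgroup.mem_centralizer_singleton_iff.1 (Finset.mem_filter.1 hx).2,
        inv_mul_cancel_left]
    have hcardS : (Finset.univ.filter fun x : H => x ∈ S).card = Nat.card S := by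
      rw [← Nat.card_eq_finsetCard]
      exact Nat.card_congr (Equiv.subtypeEquivRight fun x => by simp)
    have heq := Finset.eq_of_subset_of_card_le hsub (by
      rw [hcardS]; simp [← Nat.card_eq_fintype_card] at hXz ⊢; omega)
    have hw : w⁻¹ ∈ X := by rw [hmemX, inv_inv]; exact hwc
    rw [← heq, Finset.mem_filter] at hw
    refine hwne ?_
    rw [Subgroup.mem_centralizer_singleton_iff.1 (inv_mem_iff.1 hw.2), mul_inv_cancel_right]
  · have hfull : X = Finset.univ := Finset.eq_univ_of_card _ (by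
      rw [← Nat.card_eq_fintype_card, hHS]
      apply Int.natCast_inj.1
      push_cast
      rw [hXz, hk1]; ring)
    have h := (hmemX g⁻¹).1 (hfull ▸ Finset.mem_univ _)
    rwa [inv_inv] at h
  · exfalso
    have h1 : z * z = 1 := Involution.mul_self_of_orderOf hz
    have hmem : (1 : H) ∈ X := by rw [hmemX]; simp
    have hpos : (0 : ℤ) < X.card := by exact_mod_cast Finset.card_pos.2 ⟨1, hmem⟩
    rw [hXz, hk1] at hpos
    nlinarith

end

end Cfsg.Agent.Bender20
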