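import Cfsg.Agent.Huppert69.Main
import Cfsg.Agent.Bender43.Cores
import Cfsg.Agent.Lib.Thompson.FFSL2.Galois
import Cfsg.Agent.CG26.FieldAutCard
import Mathlib.FieldTheory.Fixed
import Mathlib.FieldTheory.Finite.Basic

/-!
Groups of odd order transitive on the non-identity elements of an elementary abelian 2-group: the
multiplicative part and its properties (Huppert's semilinearity, Hilbert 90).
-/

set_option autoImplicit false

namespace Cfsg.Agent.Bender20

open Subgroup

universe u v

variable {D : Type u} [Group D] {Z : Type v} [Group Z]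

/-- The properties of the part `M` of `D` acting by multiplications in `φ : D →* MulAut Z`. -/
structure MulPart (φ : D →* MulAut Z) (M : Subgroup D) : Prop where
  /-- `M` is normal. -/
  normal : M.Normal
  /-- `M` contains the kernel. -/
  ker_le : φ.ker ≤ M
  /-- The image of `M` is cyclic. -/
  cyclic : IsCyclic (M.map φ)
  /-- An element of `M` fixing a non-trivial vector acts trivially. -/
  fpf : ∀ x ∈ M, ∀ z : Z, z ≠ 1 → φ x z = z → φ x = 1
  /-- The image of `M` is its own centraliser. -/
  cent : ∀ x : D, (∀ y ∈ M, φ x * φ y = φ y * φ x) → x ∈ M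
  /-- Normal subgroups with abelian image lie in `M`. -/
  largest : ∀ N : Subgroup D, N.Normal → (∀ x ∈ N, ∀ y ∈ N, φ x * φ y = φ y * φ x) → N ≤ M
  /-- The image of `M` consists of multiplications by non-zero scalars. -/
  card_dvd : Nat.card (M.map φ) ∣ Nat.card Z - 1
  /-- Transitivity gives the lower bound. -/
  dvd_card : Nat.card Z - 1 ∣ M.index * Nat.card (M.map φ)
  /-- The index divides the dimension. -/
  index_dvd : ∀ e : ℕ, Nat.card Z = 2 ^ e → M.index ∣ e
  /-- The quotient is cyclic. -/
  exists_gen : ∃ g : D, M ⊔ zpowers g = ⊤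
  /-- Hilbert 90. -/
  exists_fixed : ∀ x : D, (∀ n : ℕ, φ x ^ n ∈ M.map φ → φ x ^ n = 1) → ∃ z : Z, z ≠ 1 ∧ φ x z = z
  /-- The fixed points of an element meeting the multiplicative part trivially form a subfield. -/
  card_fixed : ∀ x : D, (∀ n : ℕ, φ x ^ n ∈ M.map φ → φ x ^ n = 1) →
    Nat.card {z : Z // φ x z = z} ^ orderOf (φ x) = Nat.card Z

theorem three_le_of_odd {m : ℕ} (h : Odd m) (h1 : m ≠ 1) : 3 ≤ m := by
  obtain ⟨k, rfl⟩ := h; omega

/-- A numerical bound. -/
theorem bound_mul_sq {m d : ℕ} (hm : Odd m) (hm1 : m ≠ 1) (hd : 1 ≤ d) :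
    m * d * ((2 ^ d - 1) * (2 ^ d - 1)) + 1 < (2 ^ d) ^ m := by
  set x := 2 ^ d with hx
  have hdx : 2 * d ≤ x := by
    rw [hx]
    obtain ⟨d, rfl⟩ := Nat.exists_eq_add_of_le' hd
    rw [pow_succ']
    exact Nat.mul_le_mul_left 2 Nat.lt_two_pow_self
  have hsq : (x - 1) * (x - 1) < x * x := Nat.mul_self_lt_mul_self (by omega)
  rcases (three_le_of_odd hm hm1).eq_or_lt with h3 | h3
  · subst h3
    by_cases hd4 : 4 ≤ d
    · have h3d : 3 * d ≤ x := by
        have : d ≤ 2 ^ (d - 2) := by
          obtain ⟨k, rfl⟩ := Nat.exists_eq_add_of_le' (show 4 ≤ d from hd4)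
          have := Nat.lt_two_pow_self (n := k)
          rw [show k + 4 - 2 = k + 2 by omega, pow_add]
          omega
        rw [hx, show d = d - 2 + 2 by omega, pow_add]
        omega
      have h1 : 3 * d * ((x - 1) * (x - 1)) + 1 < x * (x * x) := by
        have := Nat.mul_le_mul h3d (Nat.succ_le_of_lt hsq)
        nlinarith [this, h3d]
      calc _ < x * (x * x) := h1
        _ = x ^ 3 := by ring
    · interval_cases d <;> norm_num [hx]
  · obtain ⟨j, rfl⟩ : ∃ j, m = j + 5 := by
      refine ⟨m - 5, ?_⟩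
      obtain ⟨k, rfl⟩ := hm
      omega
    have hx2 : 2 ≤ x := by omega
    have hj : j + 5 ≤ 2 ^ (j + 3) := by
      have := Nat.lt_two_pow_self (n := j)
      rw [pow_add]; omega
    have h1 : (j + 5) * d ≤ x ^ (j + 3) := by
      have h2 : 2 ^ (j + 3) * d ≤ x ^ (j + 3) := by
        calc 2 ^ (j + 3) * d ≤ 2 ^ (j + 3) * d ^ (j + 3) :=
              Nat.mul_le_mul_left _ (Nat.le_self_pow (by omega) d)
          _ = (2 * d) ^ (j + 3) := (mul_pow _ _ _).symm
          _ ≤ _ := Nat.pow_le_pow_left hdx _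
      exact (Nat.mul_le_mul_right d hj).trans h2
    have h2 := Nat.mul_le_mul h1 (Nat.succ_le_of_lt hsq)
    rw [show x ^ (j + 3) * (x * x) = x ^ (j + 5) by ring] at h2
    nlinarith [h2, hd]

section

variable {F : Type} [Field F] [Finite F]

/-- The units fixed by a field automorphism. -/
def fixUnits (σ : F ≃+* F) : Subgroup Fˣ where
  carrier := {u | σ (u : F) = u}
  mul_mem' := fun {a b} ha hb => by
    show σ ((a * b : Fˣ) : F) = ((a * b : Fˣ) : F)
    rw [Units.val_mul, map_mul, ha, hb]
  one_mem' := map_one σ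
  inv_mem' := fun {a} ha => by
    show σ ((a⁻¹ : Fˣ) : F) = ((a⁻¹ : Fˣ) : F)
    rw [Units.val_inv_eq_inv_val, map_inv₀, ha]

/-- The fixed units of an automorphism of order `m` are few. -/
theorem card_fixUnits {e : ℕ} (hF : Nat.card F = 2 ^ e) (σ : F ≃+* F) :
    ∃ d : ℕ, 1 ≤ d ∧ e = orderOf σ * d ∧ Nat.card (fixUnits σ) ≤ 2 ^ d - 1 := by
  classical
  haveI : Finite (RingAut F) :=
    Finite.of_injective (fun f : RingAut F => (f : F → F)) DFunLike.coe_injective
  let P : Subgroup (RingAut F) := zpowers σ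
  haveI : Fintype P := Fintype.ofFinite _
  haveI : FaithfulSMul P F := ⟨fun {p q} h => Subtype.ext (RingEquiv.ext fun x => h x)⟩
  set K := FixedPoints.subfield P F with hK
  have hfin : Module.finrank K F = orderOf σ := by
    rw [hK, FixedPoints.finrank_eq_card, ← Nat.card_eq_fintype_card]
    exact Nat.card_zpowers σ
  haveI : Module.Finite K F := Module.Finite.of_finite
  have hcard : Nat.card F = Nat.card K ^ orderOf σ := by
    rw [← hfin]; exact Module.natCard_eq_pow_finrank
  have hm : orderOf σ ≠ 0 := (orderOf_pos σ).ne'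
  obtain ⟨d, -, hd⟩ := (Nat.dvd_prime_pow Nat.prime_two).1
    (show Nat.card K ∣ 2 ^ e by rw [← hF, hcard]; exact dvd_pow_self _ hm)
  have hK1 : 1 < Nat.card K := Finite.one_lt_card
  refine ⟨d, ?_, ?_, ?_⟩
  · by_contra h
    rw [show d = 0 by omega, pow_zero] at hd
    omega
  · rw [hcard, hd, ← pow_mul] at hF
    rw [mul_comm]
    exact (Nat.pow_right_injective le_rfl hF).symm
  · let f : fixUnits σ → Kˣ := fun u => Units.mk0 ⟨((u : Fˣ) : F), by
      rintro ⟨p, hp⟩
      obtain ⟨n, rfl⟩ := mem_zpowers_iff.1 hp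
      have hmem : σ ^ n ∈ MulAction.stabilizer (RingAut F) ((u : Fˣ) : F) :=
        zpow_mem (show σ ∈ MulAction.stabilizer (RingAut F) ((u : Fˣ) : F) from u.2) n
      exact hmem⟩ (fun h => (u : Fˣ).ne_zero (congrArg Subtype.val h))
    have hf : Function.Injective f := fun u v h =>
      Subtype.ext (Units.ext (congrArg (fun w : Kˣ => ((w : K) : F)) h))
    refine (Nat.card_le_card_of_injective f hf).trans ?_
    rw [Nat.card_units, hd]

/-- The fixed field of an automorphism of order `m` has degree `m` below the field. -/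
theorem card_fix_pow (σ : F ≃+* F) : Nat.card {w : F // σ w = w} ^ orderOf σ = Nat.card F := by
  classical
  haveI : Finite (RingAut F) :=
    Finite.of_injective (fun f : RingAut F => (f : F → F)) DFunLike.coe_injective
  let P : Subgroup (RingAut F) := zpowers σ
  haveI : Fintype P := Fintype.ofFinite _
  haveI : FaithfulSMul P F := ⟨fun {p q} h => Subtype.ext (RingEquiv.ext fun x => h x)⟩
  set K := FixedPoints.subfield P F with hK
  have hfin : Module.finrank K F = orderOf σ := by
    rw [hK, FixedPoints.finrank_eq_card, ← Nat.card_eq_fintype_card]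
    exact Nat.card_zpowers σ
  haveI : Module.Finite K F := Module.Finite.of_finite
  have h : {w : F // σ w = w} ≃ K := Equiv.subtypeEquivRight fun w =>
    ⟨fun hw p => by
      obtain ⟨n, hn⟩ := mem_zpowers_iff.1 p.2
      have hmem : σ ^ n ∈ MulAction.stabilizer (RingAut F) w :=
        zpow_mem (show σ ∈ MulAction.stabilizer (RingAut F) w from hw) n
      rw [hn] at hmem
      exact hmem,
    fun hw => hw ⟨σ, mem_zpowers σ⟩⟩
  rw [Nat.card_congr h, ← hfin]
  exact (Module.natCard_eq_pow_finrank).symm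

end

/-- An odd group transitive on the non-identity elements of an elementary abelian 2-group has a
multiplicative part. -/
theorem exists_mulPart [Finite D] [Finite Z] [Nontrivial Z] (hodd : Odd (Nat.card D))
    (φ : D →* MulAut Z) (hZ : ∀ z : Z, z * z = 1)
    (htr : ∀ z w : Z, z ≠ 1 → w ≠ 1 → ∃ d : D, φ d z = w) :
    ∃ M : Subgroup D, MulPart φ M := by
  classical
  haveI : Fact (Nat.Prime 2) := ⟨Nat.prime_two⟩
  have hinv : ∀ z : Z, z⁻¹ = z := fun z => inv_eq_of_mul_eq_one_right (hZ z)
  have hcomm : ∀ a b : Z, a * b = b * a := fun a b => by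
    rw [← hinv (a * b), mul_inv_rev, hinv, hinv]
  letI : CommGroup Z := { ‹Group Z› with mul_comm := hcomm }
  letI iM : Module (ZMod 2) (Additive Z) := AddCommGroup.zmodModule (n := 2) (fun x => by
    show Additive.ofMul (x.toMul ^ 2) = 0
    rw [sq, hZ]; rfl)
  let toLin : MulAut Z →* (Additive Z ≃ₗ[ZMod 2] Additive Z) := MonoidHom.mk'
    (fun f => (MulEquiv.toAdditive f).toLinearEquiv
      (fun c x => ZMod.map_smul (MulEquiv.toAdditive f) c x))
    (fun f g => LinearEquiv.ext fun x => rfl)
  let ρ : φ.range →* (Additive Z ≃ₗ[ZMod 2] Additive Z) := toLin.comp φ.range.subtype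
  have hρ : Function.Injective ρ := fun r s h => Subtype.ext (MulEquiv.ext fun z =>
    Additive.ofMul.injective (LinearEquiv.congr_fun h (Additive.ofMul z)))
  have hdvd : Nat.card φ.range ∣ Nat.card D :=
    Subgroup.card_dvd_of_surjective φ.rangeRestrict φ.rangeRestrict_surjective
  have hsol : Group.IsSolvable φ.range := Bender43.solvable_of_odd (hodd.of_dvd_nat hdvd)
  have htrans : ∀ v w : Additive Z, v ≠ 0 → w ≠ 0 → ∃ g : φ.range, ρ g v = w := fun v w hv hw => by
    obtain ⟨d, hd⟩ := htr v.toMul w.toMul (fun h => hv (toMul_eq_one.1 h))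
      (fun h => hw (toMul_eq_one.1 h))
    exact ⟨⟨φ d, d, rfl⟩, congrArg Additive.ofMul hd⟩
  obtain ⟨e, he⟩ : ∃ e : ℕ, Nat.card Z = 2 ^ e := IsPGroup.iff_card.1
    (fun z : Z => ⟨1, by rw [pow_one, sq]; exact hZ z⟩)
  have hcV : Nat.card (Additive Z) = 2 ^ e := (Nat.card_congr Additive.toMul).trans he
  rcases Huppert69.semilinear_or_exceptional hsol hρ htrans with
    ⟨F, fF, ftF, E, hsl⟩ | ⟨-, hex⟩
  swap
  · exfalso
    rcases hex with h81 | ⟨-, hq⟩
    · rw [hcV] at h81
      have : 2 ∣ 81 := h81 ▸ dvd_pow_self 2 (by rintro rfl; simp at h81)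
      omega
    · omega
  have hcF : Nat.card F = 2 ^ e := by rw [← Nat.card_congr E.toEquiv, hcV]
  let z1 : Z := (E.symm 1).toMul
  have hEz1 : E (Additive.ofMul z1) = 1 := E.apply_symm_apply 1
  have hz1 : z1 ≠ 1 := fun h => one_ne_zero (α := F) (by rw [← hEz1, h]; exact map_zero E)
  have hsl' : ∀ x : D, ∃ (a : Fˣ) (σ : F ≃+* F),
      ∀ z : Z, E (Additive.ofMul (φ x z)) = a * σ (E (Additive.ofMul z)) := fun x => by
    obtain ⟨a, σ, h⟩ := hsl ⟨φ x, x, rfl⟩
    have ha : a ≠ 0 := by
      rintro rfl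
      have h1 : E (Additive.ofMul (φ x z1)) = 0 := by
        rw [← zero_mul (σ (E (Additive.ofMul z1)))]; exact h (Additive.ofMul z1)
      exact hz1 ((φ x).injective (by
        rw [map_one]
        exact Additive.ofMul.injective (E.injective (h1.trans (map_zero E).symm))))
    exact ⟨Units.mk0 a ha, σ, fun z => h (Additive.ofMul z)⟩
  choose a σ hσ using hsl'
  -- uniqueness
  have hval : ∀ y : F, E (Additive.ofMul (E.symm y).toMul) = y := fun y => E.apply_symm_apply y
  have huniq : ∀ (x : D) (b : F) (τ : F ≃+* F),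
      (∀ z : Z, E (Additive.ofMul (φ x z)) = b * τ (E (Additive.ofMul z))) →
        (a x : F) = b ∧ σ x = τ := by
    intro x b τ h
    have h1 : (a x : F) = b := by
      have := (hσ x z1).symm.trans (h z1)
      rwa [hEz1, map_one, map_one, mul_one, mul_one] at this
    refine ⟨h1, RingEquiv.ext fun y => ?_⟩
    have := (hσ x (E.symm y).toMul).symm.trans (h (E.symm y).toMul)
    rw [hval, ← h1] at this
    exact mul_left_cancel₀ (a x).ne_zero this
  have hext : ∀ x y : D, a x = a y → σ x = σ y → φ x = φ y := fun x y h h' =>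
    MulEquiv.ext fun z => Additive.ofMul.injective (E.injective (by rw [hσ, hσ, h, h']))
  have hmul : ∀ x y : D, (a (x * y) : F) = a x * σ x (a y) ∧ σ (x * y) = σ x * σ y := fun x y =>
    huniq (x * y) _ _ fun z => by
      rw [map_mul, MulAut.mul_apply, hσ, hσ, map_mul, mul_assoc]; rfl
  have hone : (a 1 : F) = 1 ∧ σ 1 = 1 := huniq 1 _ _ fun z => by
    rw [map_one, one_mul]; rfl
  let S : D →* RingAut F := MonoidHom.mk' σ fun x y => (hmul x y).2
  have hS : ∀ x, S x = σ x := fun _ => rfl
  have hmemker : ∀ {x : D}, x ∈ S.ker ↔ σ x = 1 := fun {x} => MonoidHom.mem_ker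
  -- elements of the kernel of `φ`
  have hker1 : ∀ x : D, φ x = 1 → (a x : F) = 1 ∧ σ x = 1 := fun x hx => huniq x _ _ fun z => by
    rw [hx, one_mul]; rfl
  have hker : φ.ker ≤ S.ker := fun x hx => hmemker.2 (hker1 x hx).2
  -- scalars
  have hR : ∀ r ∈ S.ker.map φ, ∃ c : Fˣ, ∀ z : Z,
      E (Additive.ofMul (r z)) = c * E (Additive.ofMul z) := by
    rintro r ⟨x, hx, rfl⟩
    exact ⟨a x, fun z => by rw [hσ, hmemker.1 hx]; rfl⟩
  let val : S.ker.map φ → Fˣ := fun r => (hR r r.2).choose
  have hval' : ∀ (r : S.ker.map φ) (z : Z),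
      E (Additive.ofMul ((r : MulAut Z) z)) = val r * E (Additive.ofMul z) := fun r =>
    (hR r r.2).choose_spec
  have hval1 : ∀ (r : S.ker.map φ) (c : F), (∀ z : Z,
      E (Additive.ofMul ((r : MulAut Z) z)) = c * E (Additive.ofMul z)) → (val r : F) = c := by
    intro r c h
    have := (hval' r z1).symm.trans (h z1)
    rwa [hEz1, mul_one, mul_one] at this
  let R : S.ker.map φ →* Fˣ := MonoidHom.mk' val fun r s => Units.ext (hval1 _ _ fun z => by
    rw [Units.val_mul, mul_assoc, ← hval', ← hval']; rfl)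
  have hRinj : Function.Injective R := fun r s h => Subtype.ext (MulEquiv.ext fun z =>
    Additive.ofMul.injective (E.injective (by
      rw [hval', hval', show val r = val s from h])))
  have hRa : ∀ (x : D) (hx : x ∈ S.ker), R ⟨φ x, x, hx, rfl⟩ = a x := fun x hx =>
    Units.ext (hval1 _ _ fun z => by
      show E (Additive.ofMul (φ x z)) = _
      rw [hσ, hmemker.1 hx]; rfl)
  have hA : Nat.card (S.ker.map φ) ∣ Nat.card Z - 1 := by
    have h := Subgroup.card_dvd_of_injective R hRinj
    rwa [Nat.card_units, hcF, ← he] at h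
  -- transitivity
  have hq : Nat.card Z - 1 ∣ S.ker.index * Nat.card (S.ker.map φ) := by
    have h1 : Nat.card Z - 1 ∣ Nat.card φ.range := by
      letI : MulAction φ.range {z : Z // z ≠ 1} :=
        { smul := fun r z => ⟨(r : MulAut Z) z, fun h => z.2 ((r : MulAut Z).injective
            (h.trans (map_one _).symm))⟩
          one_smul := fun z => Subtype.ext rfl
          mul_smul := fun r s z => Subtype.ext rfl }
      have ho : MulAction.orbit φ.range (⟨z1, hz1⟩ : {z : Z // z ≠ 1}) = Set.univ :=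
        Set.eq_univ_of_forall fun w => by
          obtain ⟨d, hd⟩ := htr z1 w.1 hz1 w.2
          exact ⟨⟨φ d, d, rfl⟩, Subtype.ext hd⟩
      have h2 := (MulAction.stabilizer φ.range (⟨z1, hz1⟩ : {z : Z // z ≠ 1})).index_dvd_card
      rw [MulAction.index_stabilizer, ho, Set.ncard_univ] at h2
      haveI := Fintype.ofFinite Z
      rwa [Nat.card_eq_fintype_card, Fintype.card_subtype_compl, Fintype.card_subtype_eq,
        ← Nat.card_eq_fintype_card] at h2
    rw [← Subgroup.index_ker, ← Subgroup.relIndex_mul_index hker] at h1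
    have h2 : φ.ker.relIndex S.ker = Nat.card (S.ker.map φ) := by
      rw [← φ.restrict_range S.ker, ← Subgroup.index_ker, MonoidHom.ker_restrict]; rfl
    rwa [h2, mul_comm] at h1
  haveI : Finite (RingAut F) :=
    Finite.of_injective (fun f : RingAut F => (f : F → F)) DFunLike.coe_injective
  have hAut : Nat.card (RingAut F) = e :=
    CG26.card_fieldAut 2 e (by rw [← Nat.card_eq_fintype_card]; exact hcF)
  have hidx : S.ker.index ∣ e := by
    rw [Subgroup.index_ker, ← hAut]; exact Subgroup.card_subgroup_dvd_card _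
  -- the key estimate
  have key : ∀ x : D, (∀ y ∈ S.ker,
      σ x ((a y : F) / σ x (a y)) = (a y : F) / σ x (a y)) → σ x = 1 := by
    intro x hx
    by_contra hne
    obtain ⟨d, hd1, hed, hfix⟩ := card_fixUnits hcF (σ x)
    have hm : Odd (orderOf (σ x)) :=
      hodd.of_dvd_nat ((orderOf_map_dvd S x).trans (orderOf_dvd_natCard x))
    have hm1 : orderOf (σ x) ≠ 1 := fun h => hne (orderOf_eq_one_iff.1 h)
    let τ : Fˣ →* Fˣ := Units.map (σ x : F →+* F).toMonoidHom
    let P : S.ker.map φ →* Fˣ := R / τ.comp R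
    have hPv : ∀ r, (P r : F) = (R r : F) / σ x (R r) := fun r => by
      show ((R r / τ (R r) : Fˣ) : F) = _
      rw [Units.val_div_eq_div_val]; rfl
    have hrange : P.range ≤ fixUnits (σ x) := by
      rintro _ ⟨⟨_, y, hy, rfl⟩, rfl⟩
      show σ x _ = _
      rw [hPv, hRa y hy]
      exact hx y hy
    have hkerP : P.ker.map R ≤ fixUnits (σ x) := by
      rintro _ ⟨r, hr, rfl⟩
      have h := hPv r
      rw [MonoidHom.mem_ker.1 hr, Units.val_one, eq_comm, div_eq_one_iff_eq] at h
      · exact h.symm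
      · exact (map_ne_zero_iff _ (σ x).injective).2 (R r).ne_zero
    have hcard : Nat.card (S.ker.map φ) ≤ (2 ^ d - 1) * (2 ^ d - 1) := by
      rw [Subgroup.card_eq_card_quotient_mul_card_subgroup P.ker,
        Nat.card_congr (QuotientGroup.quotientKerEquivRange P).toEquiv,
        ← Subgroup.card_map_of_injective hRinj (K := P.ker)]
      exact Nat.mul_le_mul ((Subgroup.card_le_of_le hrange).trans hfix)
        ((Subgroup.card_le_of_le hkerP).trans hfix)
    have he0 : 0 < e := by rw [hed]; exact Nat.mul_pos (orderOf_pos _) hd1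
    have h2 : 1 < 2 ^ e := Nat.one_lt_two_pow he0.ne'
    have h1 : Nat.card Z - 1 ≤ e * ((2 ^ d - 1) * (2 ^ d - 1)) :=
      (Nat.le_of_dvd (Nat.mul_pos (Nat.pos_of_ne_zero FiniteIndex.index_ne_zero) Nat.card_pos)
        hq).trans (Nat.mul_le_mul (Nat.le_of_dvd he0 hidx) hcard)
    have hb := bound_mul_sq hm hm1 hd1
    rw [← pow_mul, mul_comm d, ← hed] at hb
    rw [he] at h1
    omega
  refine ⟨S.ker, inferInstance, hker, isCyclic_of_injective R hRinj, ?_, ?_, ?_, hA, hq, ?_, ?_, ?_, ?_⟩
  · -- fixed point free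
    intro x hx z hz hfz
    have h := hσ x z
    rw [hfz, hmemker.1 hx] at h
    have hEz : E (Additive.ofMul z) ≠ 0 := fun h0 =>
      hz (Additive.ofMul.injective (E.injective (h0.trans (map_zero E).symm)))
    have ha : (a x : F) = 1 := (mul_eq_right₀ hEz).1 h.symm
    have := hext x 1 (Units.ext (ha.trans hone.1.symm)) ((hmemker.1 hx).trans hone.2.symm)
    rwa [map_one] at this
  · -- centraliser
    intro x hx
    refine hmemker.2 (key x fun y hy => ?_)
    have h1 : (a (x * y) : F) = a (y * x) := by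
      have h2 : φ (x * y) = φ (y * x) := by rw [map_mul, map_mul]; exact hx y hy
      exact (huniq (y * x) _ _ fun z => by rw [← h2]; exact hσ (x * y) z).1.symm
    rw [(hmul x y).1, (hmul y x).1, hmemker.1 hy] at h1
    have h3 : σ x (a y) = a y := mul_left_cancel₀ (a x).ne_zero (h1.trans (mul_comm _ _))
    rw [h3, div_self (a y).ne_zero, map_one]
  · -- largest
    intro N hN hab x hx
    refine hmemker.2 (key x fun y hy => ?_)
    set c := y * x * y⁻¹ with hc
    have hcN : c ∈ N := hN.conj_mem x hx y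
    have hcy : c * y = y * x := by rw [hc, inv_mul_cancel_right]
    have hσc : σ c = σ x := by
      have h1 : σ (c * y) = σ (y * x) := by rw [hcy]
      rwa [(hmul c y).2, (hmul y x).2, hmemker.1 hy, mul_one, one_mul] at h1
    have hac : (a c : F) = a x * ((a y : F) / σ x (a y)) := by
      have h1 : (a (c * y) : F) = a (y * x) := by rw [hcy]
      rw [(hmul c y).1, (hmul y x).1, hσc, hmemker.1 hy] at h1
      rw [mul_div_assoc', eq_div_iff ((map_ne_zero_iff _ (σ x).injective).2 (a y).ne_zero), h1]
      exact mul_comm _ _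
    have h2 : (a (c * x) : F) = a (x * c) := by
      have h3 : φ (c * x) = φ (x * c) := by
        rw [map_mul φ c x, map_mul φ x c]; exact hab c hcN x hx
      exact (huniq (x * c) _ _ fun z => by rw [← h3]; exact hσ (c * x) z).1.symm
    rw [(hmul c x).1, (hmul x c).1, hσc, hac, map_mul (σ x) _ _] at h2
    have hx0 : (a x : F) * σ x (a x) ≠ 0 :=
      mul_ne_zero (a x).ne_zero ((map_ne_zero_iff _ (σ x).injective).2 (a x).ne_zero)
    exact mul_left_cancel₀ hx0 (by rw [mul_assoc (a x : F), ← h2]; ring)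
  · intro e' he'
    rw [Nat.pow_right_injective le_rfl (he'.symm.trans he)]
    exact hidx
  · -- cyclic quotient
    haveI : IsCyclic (RingAut F) := by
      haveI : CharP F 2 := charP_of_card_eq_prime_pow (p := 2) (f := e)
        (by rw [← Nat.card_eq_fintype_card]; exact hcF)
      letI : Algebra (ZMod 2) F := ZMod.algebra F 2
      let f : (F ≃ₐ[ZMod 2] F) →* RingAut F :=
        MonoidHom.mk' (fun s => s.toRingEquiv) fun _ _ => RingEquiv.ext fun _ => rfl
      exact isCyclic_of_surjective f fun s => ⟨AlgEquiv.ofRingEquiv (f := s) (fun r =>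
        RingHom.congr_fun (RingHom.ext_zmod ((s : F →+* F).comp (algebraMap (ZMod 2) F))
          (algebraMap (ZMod 2) F)) r), RingEquiv.ext fun _ => rfl⟩
    obtain ⟨⟨_, g, rfl⟩, hg⟩ := IsCyclic.exists_generator (α := S.range)
    refine ⟨g, (Subgroup.eq_top_iff' _).2 fun x => ?_⟩
    obtain ⟨n, hn⟩ := mem_zpowers_iff.1 (hg ⟨S x, x, rfl⟩)
    have hn' : S x = S g ^ n := (congrArg Subtype.val hn).symm
    have hmem : x * (g ^ n)⁻¹ ∈ S.ker := by
      rw [MonoidHom.mem_ker, map_mul, map_inv, map_zpow, hn', mul_inv_cancel]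
    have := mul_mem (mem_sup_left (T := zpowers g) hmem)
      (mem_sup_right (S := S.ker) (zpow_mem (mem_zpowers g) n))
    rwa [inv_mul_cancel_right] at this
  · -- Hilbert 90
    intro x hx
    have hm : φ x ^ orderOf (σ x) = 1 := hx _ ⟨x ^ orderOf (σ x), by
      rw [SetLike.mem_coe, MonoidHom.mem_ker, map_pow]; exact pow_orderOf_eq_one _, map_pow φ x _⟩
    let y : F → F := fun w => a x * σ x w
    have hit : ∀ (i : ℕ) (z : Z),
        y^[i] (E (Additive.ofMul z)) = E (Additive.ofMul ((φ x ^ i) z)) := by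
      intro i z
      induction i with
      | zero => rfl
      | succ i ih => rw [Function.iterate_succ_apply', ih, pow_succ', MulAut.mul_apply, hσ]
    obtain ⟨_, w, -, hw0, hw⟩ := FFSL2.exists_fixed (U := F) (σ x) y
      (fun u w => by simp only [y, map_add, mul_add])
      (fun c u => by simp only [y, smul_eq_mul, map_mul]; ring) (S := Set.univ)
      (fun _ _ _ => trivial)
      (fun u _ => by rw [← hval u, hit, hm]; rfl) (u₀ := 1) trivial one_ne_zero
    refine ⟨(E.symm w).toMul, fun h => hw0 ?_,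
      Additive.ofMul.injective (E.injective ?_)⟩
    · rw [← hval w, h]; exact map_zero E
    · rw [hσ, hval]; exact hw
  · -- fixed points
    intro x hx
    have hm : φ x ^ orderOf (σ x) = 1 := hx _ ⟨x ^ orderOf (σ x), by
      rw [SetLike.mem_coe, MonoidHom.mem_ker, map_pow]; exact pow_orderOf_eq_one _, map_pow φ x _⟩
    have hord : orderOf (φ x) = orderOf (σ x) := by
      refine Nat.dvd_antisymm (orderOf_dvd_of_pow_eq_one hm) (orderOf_dvd_of_pow_eq_one ?_)
      have h := (hker1 (x ^ orderOf (φ x)) (by rw [map_pow, pow_orderOf_eq_one])).2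
      rwa [← hS, map_pow] at h
    let y : F → F := fun w => a x * σ x w
    have hit : ∀ (i : ℕ) (z : Z),
        y^[i] (E (Additive.ofMul z)) = E (Additive.ofMul ((φ x ^ i) z)) := by
      intro i z
      induction i with
      | zero => rfl
      | succ i ih => rw [Function.iterate_succ_apply', ih, pow_succ', MulAut.mul_apply, hσ]
    obtain ⟨_, w0, -, hw0, hw⟩ := FFSL2.exists_fixed (U := F) (σ x) y
      (fun u w => by simp only [y, map_add, mul_add])
      (fun c u => by simp only [y, smul_eq_mul, map_mul]; ring) (S := Set.univ)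
      (fun _ _ _ => trivial)
      (fun u _ => by rw [← hval u, hit, hm]; rfl) (u₀ := 1) trivial one_ne_zero
    let h0 : Z ≃ F := Additive.ofMul.trans E.toEquiv
    have h1 : {z : Z // φ x z = z} ≃ {w : F // σ x w = w} :=
      { toFun := fun z => ⟨h0 z / w0, by
          have h := hσ x z
          rw [z.2] at h
          have hw' : (a x : F) * σ x w0 = w0 := hw
          show σ x (E (Additive.ofMul (z : Z)) / w0) = E (Additive.ofMul (z : Z)) / w0
          have hs0 : σ x w0 ≠ 0 := (map_ne_zero_iff _ (σ x).injective).2 hw0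
          rw [map_div₀, div_eq_div_iff hs0 hw0]
          linear_combination (-(σ x (E (Additive.ofMul (z : Z))))) * hw' - σ x w0 * h⟩
        invFun := fun w => ⟨h0.symm (w * w0), h0.injective (by
          show E (Additive.ofMul (φ x (h0.symm (w * w0)))) = h0 (h0.symm (w * w0))
          rw [hσ, show E (Additive.ofMul (h0.symm (w * w0))) = w * w0 from h0.apply_symm_apply _,
            h0.apply_symm_apply, map_mul, w.2]
          have hw' : (a x : F) * σ x w0 = w0 := hw
          linear_combination (w : F) * hw')⟩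
        left_inv := fun z => Subtype.ext (by
          show h0.symm (h0 z / w0 * w0) = z
          rw [div_mul_cancel₀ _ hw0, h0.symm_apply_apply])
        right_inv := fun w => Subtype.ext (by
          show h0 (h0.symm (w * w0)) / w0 = w
          rw [h0.apply_symm_apply, mul_div_cancel_right₀ _ hw0]) }
    rw [Nat.card_congr h1, hord, card_fix_pow, hcF, he]

end Cfsg.Agent.Bender20
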