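import Cfsg.Agent.Bender20.CCSubgroup
import Cfsg.Agent.Lib.CharClifford.Eigen
import Mathlib.RepresentationTheory.Character

/-!
A subgroup containing the centralisers of its non-trivial elements, large against the index `e` in
its normaliser, is normal if the group has a faithful character of degree at most `e` (helper7).

If `ψ` is irreducible of degree at most `e ^ 2` with `a₀ ≠ 0` fixed vectors on the subgroup and a
non-trivial constituent `x` there, then its partners `φ` for the pairs `(x, x')` are at least `e`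
in number, all with `a₀` fixed vectors and without `x`; this exhausts the norm `e + 1` of the
vector `(a₀ - a_x)`, and contradicts its orthogonality to the degrees.
-/

set_option autoImplicit false
set_option linter.unusedSectionVars false

namespace Cfsg.Agent.Bender20

open scoped ComplexConjugate Classical

noncomputable section

universe u

variable {H : Type u} [Group H] [Fintype H] {F : Subgroup H}

/-- Conjugate characters in the normaliser. -/
def CjRel (l l' : Cfsg.IrrCharacter F) : Prop :=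
  ∃ y : Subgroup.normalizer (F : Set H), cjChar y l = l'

theorem cjChar_mul (y z : Subgroup.normalizer (F : Set H)) (l : Cfsg.IrrCharacter F) :
    cjChar y (cjChar z l) = cjChar (z * y) l := by
  refine Subtype.ext (funext fun f => congrArg (l : F → ℂ) (Subtype.ext ?_))
  simp [cjF_coe, mul_assoc]

theorem cjChar_one (l : Cfsg.IrrCharacter F) :
    cjChar (1 : Subgroup.normalizer (F : Set H)) l = l := by
  refine Subtype.ext (funext fun f => congrArg (l : F → ℂ) (Subtype.ext ?_))
  simp [cjF_coe]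

theorem CjRel.symm {l l' : Cfsg.IrrCharacter F} (h : CjRel l l') : CjRel l' l := by
  obtain ⟨y, rfl⟩ := h
  exact ⟨y⁻¹, by rw [cjChar_mul, mul_inv_cancel, cjChar_one]⟩

theorem cjChar_trivF (y : Subgroup.normalizer (F : Set H)) : cjChar y (trivF F) = trivF F :=
  Subtype.ext (funext fun _ => rfl)

/-- The classes of the relation have at most `e` members. -/
theorem card_cjRel_le (hF : IsCC F) {e : ℕ}
    (he : Nat.card (Subgroup.normalizer (F : Set H)) = e * Nat.card F) (l : Cfsg.IrrCharacter F) :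
    (Finset.univ.filter fun l' => CjRel l l').card ≤ e := by
  choose y hy using fun o : {o // o ∈ Finset.univ.filter fun l' => CjRel l l'} =>
    (Finset.mem_filter.1 o.2).2
  let φ : {o // o ∈ Finset.univ.filter fun l' => CjRel l l'} × F → Subgroup.normalizer (F : Set H) :=
    fun q => y q.1 * ⟨(q.2 : H), Subgroup.le_normalizer q.2.2⟩
  have hinj : Function.Injective φ := fun a b hab => by
    have h1 : ∀ q, cjChar (φ q) l = (q.1 : Cfsg.IrrCharacter F) := fun q => by
      show cjChar (y q.1 * _) l = _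
      rw [← cjChar_mul, hy, cjChar_eq_of_mem hF q.2.2]
    have h2 : a.1 = b.1 := Subtype.ext ((h1 a).symm.trans (hab ▸ h1 b))
    refine Prod.ext h2 (Subtype.ext ?_)
    have h3 := congrArg Subtype.val hab
    simp only [φ, h2, Subgroup.coe_mul, mul_right_inj] at h3
    exact h3
  have h := Nat.card_le_card_of_injective φ hinj
  rw [Nat.card_prod, Nat.card_eq_finsetCard, he] at h
  exact Nat.le_of_mul_le_mul_right h Nat.card_pos

theorem mult_one_triv : mult (1 : H → ℂ) (trivF F) = 1 := CharCore.classInner_irr_self (trivF F)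

theorem mult_one_ne {l : Cfsg.IrrCharacter F} (hl : l ≠ trivF F) : mult (1 : H → ℂ) l = 0 :=
  CharCore.classInner_irr_of_ne (χ := trivF F) (Ne.symm hl)

/-- A small irreducible character with fixed vectors on the subgroup is trivial on it. -/
theorem IsCC.apply_eq_of_mult_triv_ne_zero (hF : IsCC F) {e : ℕ}
    (he : Nat.card (Subgroup.normalizer (F : Set H)) = e * Nat.card F)
    (hk : e * (e + 1) + 1 ≤ Nat.card F) (ψ : Cfsg.IrrCharacter H) {d : ℕ}
    (hd : (ψ : H → ℂ) 1 = d) (hde : d ≤ e ^ 2) (h0 : mult (ψ : H → ℂ) (trivF F) ≠ 0) (f : F) :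
    (ψ : H → ℂ) f = (ψ : H → ℂ) 1 := by
  choose A hA using fun (χ : Cfsg.IrrCharacter H) (l : Cfsg.IrrCharacter F) =>
    mult_natCast (CharCore.irr_isCharacter χ) l
  set k := Nat.card F with hkdef
  have he1 : 0 < e := Nat.pos_of_ne_zero fun h => by
    have := (Nat.card_pos : 0 < Nat.card (Subgroup.normalizer (F : Set H)))
    rw [he, h, zero_mul] at this
    omega
  set N := Subgroup.normalizer (F : Set H) with hNdef
  have hkC : (k : ℂ) ≠ 0 := Nat.cast_ne_zero.2 Nat.card_pos.ne'
  -- integer forms of the relations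
  let D : Cfsg.IrrCharacter H → ℕ := fun χ => ∑ l, A χ l
  have hD : ∀ χ : Cfsg.IrrCharacter H, (χ : H → ℂ) 1 = (D χ : ℂ) := fun χ => by
    rw [← sum_mult hF (CharCore.irr_isCharacter χ)]
    simp [D, hA]
  have hDpos : ∀ χ, 0 < D χ := fun χ => Nat.pos_of_ne_zero fun h =>
    CharCore.irr_apply_one_ne_zero χ (by rw [hD, h, Nat.cast_zero])
  have hDψ : D ψ = d := by exact_mod_cast (hD ψ).symm.trans hd
  have hinv : ∀ χ l l', CjRel l l' → A χ l' = A χ l := by
    rintro χ l _ ⟨y, rfl⟩
    have h := hA χ (cjChar y l)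
    rw [mult_cjChar (CharCore.irr_isClassFunction χ), hA] at h
    exact_mod_cast h.symm
  have hC : ∀ l l', ∑ χ, ((A χ l : ℤ) - A χ l') * D χ = 0 := fun l l' => by
    have h := sum_mult_sub_mul hF l l' (g := (1 : H))
      fun f _ hf h => hf (isConj_one_right.1 h.symm)
    simp only [hA, hD, map_natCast] at h
    exact_mod_cast h
  have hkey : ∀ l l' a b : Cfsg.IrrCharacter F,
      ((∑ χ, ((A χ a : ℤ) - A χ b) * ((A χ l : ℤ) - A χ l') : ℤ) : ℂ) =
        (k : ℂ)⁻¹ * ∑ y : N, Cfsg.classInner ((cjChar y l : F → ℂ) - (cjChar y l' : F → ℂ))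
          ((a : F → ℂ) - (b : F → ℂ)) := fun l l' a b => by
    rw [← sum_mult_sub_mul_conj hF l l' a b]
    simp [hA]
  have hinner : ∀ a b : Cfsg.IrrCharacter F,
      Cfsg.classInner (a : F → ℂ) (b : F → ℂ) = if a = b then 1 else 0 := fun a b => by
    split_ifs with h
    · subst h; exact CharCore.classInner_irr_self a
    · exact CharCore.classInner_irr_of_ne h
  have hstab : ∀ (y : N) l, l ≠ trivF F → (cjChar y l = l ↔ (y : H) ∈ F) := fun y l hl =>
    ⟨fun h => mem_of_cjChar_eq hF h hl, fun h => cjChar_eq_of_mem hF h l⟩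
  have hne : ∀ (y : N) l, l ≠ trivF F → cjChar y l ≠ trivF F := fun y l hl h => hl (by
    rw [← cjChar_one l, ← mul_inv_cancel y, ← cjChar_mul, h, cjChar_trivF])
  have hcount : ((Finset.univ.filter fun y : N => (y : H) ∈ F).card : ℂ) = k := by
    rw [Nat.cast_inj, ← Nat.card_eq_finsetCard]
    exact Nat.card_congr
      { toFun := fun y => ⟨y.1, (Finset.mem_filter.1 y.2).2⟩
        invFun := fun f => ⟨⟨f, Subgroup.le_normalizer f.2⟩,
          Finset.mem_filter.2 ⟨Finset.mem_univ _, f.2⟩⟩
        left_inv := fun y => rfl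
        right_inv := fun f => rfl }
  have hB : ∀ l, l ≠ trivF F → ∑ χ, ((A χ (trivF F) : ℤ) - A χ l) ^ 2 = (e : ℤ) + 1 := fun l hl => by
    apply Int.cast_injective (α := ℂ)
    simp only [sq]
    rw [hkey, Finset.sum_congr rfl (g := fun y : N => 1 + if (y : H) ∈ F then (1 : ℂ) else 0)
      (fun y _ => ?_), Finset.sum_add_distrib, ← Finset.sum_filter, Finset.sum_const,
      Finset.sum_const, nsmul_eq_mul, nsmul_eq_mul, mul_one, mul_one, hcount, Finset.card_univ,
      ← Nat.card_eq_fintype_card, he]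
    · push_cast; field_simp
    · simp only [CharCore.classInner_sub_left, CharCore.classInner_sub_right, hinner, cjChar_trivF,
        if_neg (hne y l hl), if_neg (Ne.symm hl), hstab y l hl]
      split_ifs <;> norm_num
  have hM : ∀ l l', l ≠ trivF F → l' ≠ trivF F → ¬ CjRel l l' →
      ∑ χ, ((A χ (trivF F) : ℤ) - A χ l) * ((A χ l : ℤ) - A χ l') = -1 := fun l l' hl hl' hr => by
    apply Int.cast_injective (α := ℂ)
    rw [hkey, Finset.sum_congr rfl (g := fun y : N => - if (y : H) ∈ F then (1 : ℂ) else 0)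
      (fun y _ => ?_), Finset.sum_neg_distrib, ← Finset.sum_filter, Finset.sum_const, nsmul_eq_mul,
      mul_one, hcount]
    · push_cast; field_simp
    · simp only [CharCore.classInner_sub_left, CharCore.classInner_sub_right, hinner,
        if_neg (hne y l hl), if_neg (hne y l' hl'), hstab y l hl,
        if_neg (fun h => hr (CjRel.symm ⟨y, h⟩) : cjChar y l' ≠ l)]
      split_ifs <;> norm_num
  have hQ : ∀ l l', l ≠ trivF F → l' ≠ trivF F → ¬ CjRel l l' →
      ∑ χ, ((A χ l : ℤ) - A χ l') ^ 2 = 2 := fun l l' hl hl' hr => by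
    have h := sum_mult_sub_sq hF hl hl' (fun y e => hr ⟨y, e⟩)
      (fun y e => hr (CjRel.symm ⟨y, e⟩))
    simp only [hA, map_sub, map_natCast] at h
    apply Int.cast_injective (α := ℂ)
    push_cast
    rw [← h]
    exact Finset.sum_congr rfl fun χ _ => by ring
  -- the non-trivial characters
  set L := (Finset.univ : Finset (Cfsg.IrrCharacter F)).erase (trivF F) with hL
  have hLcard : L.card + 1 = k := by
    have h := CharCore.sum_degree_sq (G := F)
    simp only [irr_degree_one hF, one_pow, Finset.sum_const, nsmul_eq_mul, mul_one] at h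
    have h' : (Finset.univ : Finset (Cfsg.IrrCharacter F)).card = k := by exact_mod_cast h
    rw [hL, Finset.card_erase_add_one (Finset.mem_univ _), h']
  have hsmall : ∀ χ, D χ ≤ e ^ 2 → (L.filter fun l => A χ l ≠ 0).card + A χ (trivF F) ≤ e ^ 2 :=
    fun χ hχ => by
    refine le_trans ?_ hχ
    show _ ≤ ∑ l, A χ l
    rw [← Finset.add_sum_erase _ _ (Finset.mem_univ (trivF F)), add_comm, add_le_add_iff_left,
      Finset.card_filter]
    exact Finset.sum_le_sum fun l _ => by split_ifs <;> omega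
  have hzero : ∀ χ, D χ ≤ e ^ 2 →
      k ≤ (L.filter fun l => A χ l = 0).card + 1 + (e ^ 2 - A χ (trivF F)) := fun χ hχ => by
    have h1 := hsmall χ hχ
    have h2 := Finset.card_filter_add_card_filter_not (s := L) (fun l => A χ l = 0)
    simp only [ne_eq] at h1
    omega
  have he2 : e * (e + 1) = e ^ 2 + e := by ring
  have hle1 : ∀ χ, D χ ≤ e ^ 2 → ∀ x, x ≠ trivF F → A χ x ≤ 1 := fun χ hχ x hx => by
    by_contra hgt
    obtain ⟨z, hz⟩ := Finset.card_pos.1
      (show 0 < (L.filter fun l => A χ l = 0).card by have := hzero χ hχ; omega)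
    obtain ⟨hzL, hz0⟩ := Finset.mem_filter.1 hz
    have h := hQ x z hx (Finset.mem_erase.1 hzL).1
      (fun h => by have := hinv χ _ _ h; omega)
    have h' := Finset.single_le_sum (f := fun χ => ((A χ x : ℤ) - A χ z) ^ 2)
      (fun i _ => sq_nonneg _) (Finset.mem_univ χ)
    rw [h, hz0, Nat.cast_zero, sub_zero] at h'
    have h4 : (2 : ℤ) ≤ A χ x := by omega
    nlinarith
  -- `ψ` has no non-trivial constituent on the subgroup
  suffices hall : ∀ x, x ≠ trivF F → A ψ x = 0 by
    have h := congrFun (CharCore.IsCharacter.eq_sum_classInner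
      (CharCore.isCharacter_restrict (CharCore.irr_isCharacter ψ) F))
    have h' : ∀ g : F, (ψ : H → ℂ) g = mult (ψ : H → ℂ) (trivF F) := fun g => by
      rw [h g, Finset.sum_apply, Fintype.sum_eq_single (trivF F) fun l hl => ?_]
      · simp [trivF, mult]
      · show mult (ψ : H → ℂ) l * _ = 0
        rw [hA, hall l hl, Nat.cast_zero, zero_mul]
    rw [h' f, ← OneMemClass.coe_one F, h' 1]
  intro x hx
  by_contra hx0
  set t := A ψ (trivF F) with htdef
  have ht : 1 ≤ t := Nat.pos_of_ne_zero fun h => h0 (by rw [hA, ← htdef, h, Nat.cast_zero])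
  have hψD : D ψ ≤ e ^ 2 := hDψ ▸ hde
  have hψ1 : ∀ l, l ≠ trivF F → A ψ l ≠ 0 → A ψ l = 1 := fun l hl h => by
    have := hle1 ψ hψD l hl; omega
  have hnr : ∀ a b, A ψ a ≠ 0 → A ψ b = 0 → ¬ CjRel a b := fun a b ha hb h =>
    ha ((hinv ψ a b h).symm.trans hb)
  set Q := L.filter (fun l => A ψ l = 0) with hQdef
  have hQmem : ∀ {l}, l ∈ Q → l ≠ trivF F ∧ A ψ l = 0 := fun h =>
    ⟨(Finset.mem_erase.1 (Finset.mem_filter.1 h).1).1, (Finset.mem_filter.1 h).2⟩
  -- partners
  have hpart : ∀ a b, a ≠ trivF F → A ψ a ≠ 0 → b ∈ Q → ∃ φ, φ ≠ ψ ∧ D φ = D ψ ∧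
      A φ (trivF F) = t ∧ A φ a = 0 ∧ A φ b = 1 ∧ ∀ χ, χ ≠ ψ → χ ≠ φ → A χ a = A χ b := by
    intro a b ha hap hbQ
    obtain ⟨hb, hb0⟩ := hQmem hbQ
    have hr := hnr a b hap hb0
    have ha1 := hψ1 a ha hap
    set g : Cfsg.IrrCharacter H → ℤ := fun χ => (A χ a : ℤ) - A χ b with hg
    have hgψ : g ψ = 1 := by simp [g, ha1, hb0]
    have hsum : ∑ χ ∈ Finset.univ.erase ψ, g χ ^ 2 = 1 := by
      have h := hQ a b ha hb hr
      change ∑ χ, g χ ^ 2 = 2 at h
      rw [← Finset.add_sum_erase _ _ (Finset.mem_univ ψ), hgψ] at h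
      linarith
    obtain ⟨φ, hφm, hφ0⟩ := Finset.exists_ne_zero_of_sum_ne_zero
      (show ∑ χ ∈ Finset.univ.erase ψ, g χ ^ 2 ≠ 0 by rw [hsum]; exact one_ne_zero)
    have hφψ := (Finset.mem_erase.1 hφm).1
    have hφge : 1 ≤ g φ ^ 2 := by
      have := sq_nonneg (g φ); omega
    rw [← Finset.add_sum_erase _ _ hφm] at hsum
    have hrestnn : ∀ χ ∈ (Finset.univ.erase ψ).erase φ, 0 ≤ g χ ^ 2 := fun χ _ => sq_nonneg _
    have hrest0 := (Finset.sum_eq_zero_iff_of_nonneg hrestnn).1
      (by linarith [Finset.sum_nonneg hrestnn])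
    have hφ1 : g φ ^ 2 = 1 := by linarith [Finset.sum_nonneg hrestnn]
    have hoth : ∀ χ, χ ≠ ψ → χ ≠ φ → A χ a = A χ b := fun χ h1 h2 => by
      have := hrest0 χ (by simp [h1, h2])
      have h' : g χ = 0 := sq_eq_zero_iff.1 this
      simp only [g] at h'
      omega
    have hdeg := hC a b
    rw [Fintype.sum_eq_add ψ φ (Ne.symm hφψ)
      (fun χ hχ => by rw [hoth χ hχ.1 hχ.2, sub_self, zero_mul])] at hdeg
    change g ψ * _ + g φ * _ = 0 at hdeg
    rw [hgψ, one_mul] at hdeg
    have hm1 : g φ = -1 := by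
      rcases sq_eq_one_iff.1 hφ1 with h | h
      · have := hDpos ψ; have := hDpos φ
        rw [h] at hdeg; omega
      · exact h
    rw [hm1] at hdeg
    have hDeq : D φ = D ψ := by omega
    have hb1 : A φ b ≤ 1 := hle1 φ (hDeq ▸ hψD) b hb
    have hvals : A φ a = 0 ∧ A φ b = 1 := by simp only [g] at hm1; omega
    have hmix := hM a b ha hb hr
    rw [Fintype.sum_eq_add ψ φ (Ne.symm hφψ)
      (fun χ hχ => by rw [hoth χ hχ.1 hχ.2, sub_self, mul_zero])] at hmix
    rw [ha1, hb0, hvals.1, hvals.2] at hmix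
    push_cast at hmix
    refine ⟨φ, hφψ, hDeq, ?_, hvals.1, hvals.2, hoth⟩
    rw [htdef]
    omega
  choose P hPψ hPD hPt hPa hPb hPo using hpart
  have hQcard : e + 1 ≤ Q.card := by
    have := hzero ψ hψD
    have := hsmall ψ hψD
    rw [← hQdef] at *
    omega
  have hdist : ∀ a (ha : a ≠ trivF F) (hap : A ψ a ≠ 0) b b' (hb : b ∈ Q) (hb' : b' ∈ Q),
      P a b ha hap hb = P a b' ha hap hb' → CjRel b b' := by
    intro a ha hap b b' hb hb' heq
    by_contra hr
    have h := hQ b b' (hQmem hb).1 (hQmem hb').1 hr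
    rw [Finset.sum_eq_zero fun χ _ => ?_] at h
    · norm_num at h
    by_cases h1 : χ = ψ
    · rw [h1, (hQmem hb).2, (hQmem hb').2]; simp
    by_cases h2 : χ = P a b ha hap hb
    · rw [h2, hPb]
      rw [heq, hPb]; simp
    · rw [← hPo a b ha hap hb χ h1 h2, ← hPo a b' ha hap hb' χ h1 (heq ▸ h2)]; simp
  have hS : ∀ z, z ≠ trivF F → A ψ z ≠ 0 → CjRel x z := by
    intro z hz hzp
    by_contra hr
    obtain ⟨b, hb⟩ := Finset.card_pos.1 (show 0 < Q.card by omega)
    obtain ⟨b', hb', hbb⟩ := Finset.exists_mem_notMem_of_card_lt_card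
      (show (Finset.univ.filter fun l => CjRel b l).card < Q.card by
        have := card_cjRel_le hF he b; omega)
    replace hbb : ¬ CjRel b b' := fun h => hbb (Finset.mem_filter.2 ⟨Finset.mem_univ _, h⟩)
    -- the partner for `(x, b)` contains `z` and the partner for `(z, b')` separates `x` from `b`
    have h1 : A (P x b hx hx0 hb) z ≠ 0 := by
      intro h
      have hP : P x b hx hx0 hb = P z b hz hzp hb := by
        by_contra hne'
        have := hPo z b hz hzp hb _ (hPψ x b hx hx0 hb) hne'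
        rw [h, hPb] at this
        exact zero_ne_one this
      have h' := hQ x z hx hz hr
      rw [Finset.sum_eq_zero fun χ _ => ?_] at h'
      · norm_num at h'
      by_cases h1 : χ = ψ
      · rw [h1, hψ1 x hx hx0, hψ1 z hz hzp]; simp
      by_cases h2 : χ = P x b hx hx0 hb
      · rw [h2, hPa, h]; simp
      · rw [hPo x b hx hx0 hb χ h1 h2, ← hPo z b hz hzp hb χ h1 (hP ▸ h2)]; simp
    set φ' := P z b' hz hzp hb' with hφ'
    have h2 : A φ' x ≠ 0 := by
      intro h
      have hP : φ' = P x b' hx hx0 hb' := by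
        by_contra hne'
        have := hPo x b' hx hx0 hb' _ (hPψ z b' hz hzp hb') hne'
        rw [h, hPb] at this
        exact zero_ne_one this
      have h' := hQ x z hx hz hr
      rw [Finset.sum_eq_zero fun χ _ => ?_] at h'
      · norm_num at h'
      by_cases h1 : χ = ψ
      · rw [h1, hψ1 x hx hx0, hψ1 z hz hzp]; simp
      by_cases h2 : χ = φ'
      · rw [h2, h, hφ', hPa]; simp
      · rw [hPo x b' hx hx0 hb' χ h1 (hP ▸ h2), ← hPo z b' hz hzp hb' χ h1 h2]; simp
    have h3 : A φ' b = 0 := by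
      by_contra h
      have h4 : φ' = P z b hz hzp hb := by
        by_contra hne'
        have := hPo z b hz hzp hb _ (hPψ z b' hz hzp hb') hne'
        rw [hPa] at this
        exact h this.symm
      exact hbb (CjRel.symm (hdist z hz hzp b' b hb' hb h4))
    have hne' : φ' ≠ P x b hx hx0 hb := fun h => by rw [h, hPb] at h3; exact one_ne_zero h3
    have := hPo x b hx hx0 hb φ' (hPψ z b' hz hzp hb') hne'
    rw [h3] at this
    exact h2 this
  -- at least `e` partners exhaust the norm
  let q : {b // b ∈ Q} → Cfsg.IrrCharacter H := fun b => P x b hx hx0 b.2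
  set T := Finset.univ.image q with hT
  have hTmem : ∀ χ ∈ T, A χ (trivF F) = t ∧ A χ x = 0 ∧ D χ = D ψ := fun χ hχ => by
    obtain ⟨b, -, rfl⟩ := Finset.mem_image.1 hχ
    exact ⟨hPt _ _ _ _ _, hPa _ _ _ _ _, hPD _ _ _ _ _⟩
  have hfib : (Finset.univ : Finset {b // b ∈ Q}).card ≤ e * T.card := by
    refine Finset.card_le_mul_card_image _ _ fun χ hχ => ?_
    obtain ⟨b, -, rfl⟩ := Finset.mem_image.1 hχ
    refine le_trans ?_ (card_cjRel_le hF he (b : Cfsg.IrrCharacter F))
    exact Finset.card_le_card_of_injOn (fun c => (c : Cfsg.IrrCharacter F))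
      (fun c hc => Finset.mem_filter.2 ⟨Finset.mem_univ _,
        hdist x hx hx0 _ _ b.2 c.2 (Finset.mem_filter.1 hc).2.symm⟩)
      Subtype.val_injective.injOn
  have hQbig : e ^ 2 ≤ Q.card := by
    have h1 : (L.filter fun l => ¬ A ψ l = 0).card ≤ e :=
      le_trans (Finset.card_le_card fun z hz => by
        obtain ⟨hzL, hz0⟩ := Finset.mem_filter.1 hz
        exact Finset.mem_filter.2 ⟨Finset.mem_univ _, hS z (Finset.mem_erase.1 hzL).1 hz0⟩)
        (card_cjRel_le hF he x)
    have h2 := Finset.card_filter_add_card_filter_not (s := L) (fun l => A ψ l = 0)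
    rw [← hQdef] at h2
    omega
  have hTcard : e ≤ T.card := by
    rw [Finset.card_univ, Fintype.card_coe] at hfib
    exact Nat.le_of_mul_le_mul_left (le_trans (by rw [← sq]; exact hQbig) hfib) he1
  let one : Cfsg.IrrCharacter H := ⟨1, CharCore.isIrrCharacter_one⟩
  have hone0 : A one (trivF F) = 1 := by
    have h := hA one (trivF F)
    rw [show mult ((one : Cfsg.IrrCharacter H) : H → ℂ) (trivF F) = 1 from mult_one_triv] at h
    exact_mod_cast h.symm
  have hone : ∀ l, l ≠ trivF F → A one l = 0 := fun l hl => by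
    have h := hA one l
    rw [show mult ((one : Cfsg.IrrCharacter H) : H → ℂ) l = 0 from mult_one_ne hl] at h
    exact_mod_cast h.symm
  have honeD : D one = 1 := by
    have h := hD one
    simp only [one, Pi.one_apply] at h
    exact_mod_cast h.symm
  have honeT : one ∉ T := fun h => by
    obtain ⟨b, -, hb⟩ := Finset.mem_image.1 h
    have h' : A (q b) b = 1 := hPb _ _ _ _ _
    rw [hb, hone _ (hQmem b.2).1] at h'
    exact zero_ne_one h'
  have hnorm := hB x hx
  rw [← Finset.sum_add_sum_compl (insert one T), Finset.sum_insert honeT,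
    Finset.sum_congr rfl (g := fun _ => (t : ℤ) ^ 2) (fun χ hχ => by
      rw [(hTmem χ hχ).1, (hTmem χ hχ).2.1, Nat.cast_zero, sub_zero]),
    Finset.sum_const, nsmul_eq_mul, hone0, hone x hx] at hnorm
  have hrestnn : ∀ χ ∈ (insert one T)ᶜ, 0 ≤ ((A χ (trivF F) : ℤ) - A χ x) ^ 2 :=
    fun χ _ => sq_nonneg _
  have hrest : ∀ χ ∈ (insert one T)ᶜ, ((A χ (trivF F) : ℤ) - A χ x) ^ 2 = 0 := by
    refine (Finset.sum_eq_zero_iff_of_nonneg hrestnn).1
      (le_antisymm ?_ (Finset.sum_nonneg hrestnn))
    have h1 : (e : ℤ) ≤ (T.card : ℤ) * (t : ℤ) ^ 2 := by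
      have : (e : ℤ) ≤ T.card := by exact_mod_cast hTcard
      have h' : (1 : ℤ) ≤ (t : ℤ) ^ 2 := one_le_pow₀ (by exact_mod_cast ht)
      nlinarith
    push_cast at hnorm
    linarith
  have hdeg := hC (trivF F) x
  rw [← Finset.sum_add_sum_compl (insert one T), Finset.sum_insert honeT,
    Finset.sum_eq_zero (s := (insert one T)ᶜ) (fun χ hχ => by
      rw [sq_eq_zero_iff.1 (hrest χ hχ), zero_mul]),
    Finset.sum_congr rfl (g := fun _ => (t : ℤ) * D ψ) (fun χ hχ => by
      rw [(hTmem χ hχ).1, (hTmem χ hχ).2.1, (hTmem χ hχ).2.2, Nat.cast_zero, sub_zero]),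
    Finset.sum_const, nsmul_eq_mul, hone0, hone x hx, honeD] at hdeg
  push_cast at hdeg
  have hpos : (0 : ℤ) ≤ (T.card : ℤ) * ((t : ℤ) * D ψ) := by positivity
  linarith

/-- The number of fixed vectors of a subgroup in a representation. -/
theorem finrank_invariants_eq_avg (S : Subgroup H) {V : Type*} [AddCommGroup V] [Module ℂ V]
    [FiniteDimensional ℂ V] (σ : Representation ℂ H V) :
    (Nat.card S : ℂ)⁻¹ * ∑ s : S, σ.character s =
      (Module.finrank ℂ (Representation.invariants (σ.comp S.subtype)) : ℂ) :=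
  Representation.card_inv_mul_sum_char_eq_finrank (σ.comp S.subtype)

/-- A subgroup containing the centralisers of its non-trivial elements and large against the index
`e` in its normaliser is normal if there is a faithful character of degree at most `e`. -/
theorem IsCC.normal_of_faithful_character (hF : IsCC F) {e d : ℕ}
    (he : Nat.card (Subgroup.normalizer (F : Set H)) = e * Nat.card F)
    (hk : e * (e + 1) + 1 ≤ Nat.card F) {χ : H → ℂ} (hχ : Cfsg.IsCharacter H χ) (hd : χ 1 = d)
    (hde : d ≤ e) (hker : ∀ g, χ g = χ 1 → g = 1) : F.Normal := by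
  obtain ⟨n, ρ, rfl⟩ := hχ
  have hnd : n = d := by simpa using hd
  subst hnd
  set M := Subgroup.normalClosure (F : Set H) with hM
  have hFM : F ≤ M := Subgroup.subset_normalClosure
  set τ := Representation.linHom ρ ρ with hτ
  have hτc : Cfsg.IsCharacter H τ.character := CharCore.isCharacter_character τ
  choose c hc using fun ψ : Cfsg.IrrCharacter H =>
    CharCore.IsCharacter.exists_classInner_irr_eq_natCast hτc ψ
  have hsum : ∀ g, τ.character g = ∑ ψ : Cfsg.IrrCharacter H, (c ψ : ℂ) * (ψ : H → ℂ) g := fun g => by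
    conv_lhs => rw [CharCore.IsCharacter.eq_sum_classInner hτc]
    simp [hc]
  choose dg hdg using fun ψ : Cfsg.IrrCharacter H =>
    CharCore.IsCharacter.exists_degree (CharCore.irr_isCharacter ψ)
  have hdle : ∀ ψ, c ψ ≠ 0 → dg ψ ≤ e ^ 2 := fun ψ hψ => by
    have h := hsum 1
    simp only [hdg] at h
    rw [hτ, Representation.char_linHom, inv_one, Representation.char_one, Module.finrank_fin_fun,
      ← Nat.cast_mul] at h
    have h' : n * n = ∑ χ, c χ * dg χ := by exact_mod_cast h
    calc dg ψ ≤ c ψ * dg ψ := Nat.le_mul_of_pos_left _ (Nat.pos_of_ne_zero hψ)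
      _ ≤ n * n := h' ▸ Finset.single_le_sum (f := fun χ => c χ * dg χ)
          (fun _ _ => Nat.zero_le _) (Finset.mem_univ ψ)
      _ ≤ e ^ 2 := by rw [sq]; exact Nat.mul_le_mul hde hde
  have havg : ∀ ψ, c ψ ≠ 0 → (Nat.card M : ℂ)⁻¹ * ∑ s : M, (ψ : H → ℂ) s =
      (Nat.card F : ℂ)⁻¹ * ∑ s : F, (ψ : H → ℂ) s := by
    intro ψ hψ
    obtain ⟨m, σ, hσ, hσc⟩ := ψ.2
    by_cases h0 : mult (ψ : H → ℂ) (trivF F) = 0
    · have h1 : (Nat.card F : ℂ)⁻¹ * ∑ s : F, (ψ : H → ℂ) s = 0 := by
        rw [← h0]; simp [mult, Cfsg.classInner, trivF]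
      rw [h1, ← hσc, finrank_invariants_eq_avg, Nat.cast_eq_zero]
      rw [← hσc, finrank_invariants_eq_avg, Nat.cast_eq_zero] at h1
      refine Nat.le_zero.1 (h1 ▸ Submodule.finrank_mono fun v hv => ?_)
      exact fun s => hv ⟨s, hFM s.2⟩
    · have hFk : ∀ s : F, σ s = 1 := fun s => by
        refine CharClifford.eq_one_of_character_eq_finrank σ (s : H) ?_
        rw [hσc, hF.apply_eq_of_mult_triv_ne_zero he hk ψ (hdg ψ) (hdle ψ hψ) h0 s, ← hσc,
          Representation.char_one]
      have hMk : M ≤ σ.ker := Subgroup.normalClosure_le_normal fun s hs => hFk ⟨s, hs⟩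
      have hval : ∀ s : H, s ∈ M → (ψ : H → ℂ) s = (ψ : H → ℂ) 1 := fun s hs => by
        rw [← hσc]
        simp only [Representation.character, show σ s = 1 from hMk hs, map_one]
      simp only [Finset.sum_congr rfl (fun (s : M) _ => hval s s.2),
        Finset.sum_congr rfl (fun (s : F) _ => hval s (hFM s.2)), Finset.sum_const, nsmul_eq_mul,
        Finset.card_univ, ← Nat.card_eq_fintype_card]
      rw [inv_mul_cancel_left₀ (Nat.cast_ne_zero.2 Nat.card_pos.ne'),
        inv_mul_cancel_left₀ (Nat.cast_ne_zero.2 Nat.card_pos.ne')]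
  have hfin : Module.finrank ℂ (Representation.invariants (τ.comp M.subtype)) =
      Module.finrank ℂ (Representation.invariants (τ.comp F.subtype)) := by
    apply Nat.cast_injective (R := ℂ)
    rw [← finrank_invariants_eq_avg, ← finrank_invariants_eq_avg]
    simp only [hsum]
    rw [Finset.sum_comm, Finset.sum_comm (s := (Finset.univ : Finset F)), Finset.mul_sum,
      Finset.mul_sum]
    refine Finset.sum_congr rfl fun ψ _ => ?_
    rw [← Finset.mul_sum, ← Finset.mul_sum]
    by_cases h : c ψ = 0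
    · simp [h]
    · rw [mul_left_comm, havg ψ h, mul_left_comm]
  have heq : Representation.invariants (τ.comp M.subtype) =
      Representation.invariants (τ.comp F.subtype) :=
    Submodule.eq_of_le_of_finrank_eq (fun v hv s => hv ⟨s, hFM s.2⟩) hfin
  have hinj : Function.Injective ρ := fun a b h => by
    have h1 : ρ (a * b⁻¹) = 1 := by rw [map_mul, h, ← map_mul, mul_inv_cancel, map_one]
    exact mul_inv_eq_one.1 (hker _ (by simp [Representation.character, h1]))
  have hcomm : ∀ f ∈ F, ∀ m ∈ M, m * f = f * m := by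
    intro f hf m hm
    have hmem : ρ f ∈ Representation.invariants (τ.comp F.subtype) := fun s => by
      show τ (s : H) (ρ f) = ρ f
      rw [hτ, Representation.linHom_apply]
      show ρ (s : H) * (ρ f * ρ (s : H)⁻¹) = ρ f
      rw [← map_mul, ← map_mul, ← mul_assoc, hF.comm _ s.2 _ hf, mul_inv_cancel_right]
    rw [← heq] at hmem
    have h := hmem ⟨m, hm⟩
    change τ m (ρ f) = ρ f at h
    rw [hτ, Representation.linHom_apply] at h
    change ρ m * (ρ f * ρ m⁻¹) = ρ f at h
    rw [← map_mul, ← map_mul, ← mul_assoc] at h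
    exact mul_inv_eq_iff_eq_mul.1 (hinj h)
  obtain ⟨f, hf, hf1⟩ : ∃ f ∈ F, f ≠ 1 := by
    by_contra hall
    push Not at hall
    have hFb : F = ⊥ := (Subgroup.eq_bot_iff_forall _).2 hall
    have h1 : Nat.card F = 1 := by rw [hFb, Subgroup.card_bot]
    have he0 : e = 0 := by
      rcases Nat.eq_zero_or_pos e with h | h
      · exact h
      · nlinarith
    have h2 := (Nat.card_pos : 0 < Nat.card (Subgroup.normalizer (F : Set H)))
    rw [he, he0, zero_mul] at h2
    omega
  have hMF : M = F := le_antisymm (fun m hm => hF.mem_of_commute hf hf1 (hcomm f hf m hm)) hFM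
  exact hMF ▸ Subgroup.normalClosure_normal

end

end Cfsg.Agent.Bender20
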