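import Cfsg.Agent.Bender20.SmallChar
import Cfsg.Agent.Lib.ModRep.Integral
import Cfsg.Agent.BC86.Modular
import Mathlib.Algebra.Field.ZMod

/-!
A cyclic subgroup of order `2 ^ r - 1` containing the centralisers of its non-trivial elements, of
index `r` in its normaliser, is normal in a group with a faithful `r`-dimensional representation in
coprime characteristic (helper7).
-/

set_option autoImplicit false
set_option linter.unusedSectionVars false

namespace Cfsg.Agent.Bender20

open Polynomial ModRep BlocksCore

noncomputable section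

/-- An operator annihilated by a power of `X - 1` and of finite invertible order is trivial. -/
theorem eq_one_of_pow_sub_one {K A : Type*} [Field K] [Ring A] [Algebra K A] {T : A} {m n : ℕ}
    (hT : T ^ m = 1) (hm : (m : K) ≠ 0) (hn : (T - 1) ^ n = 0) : T = 1 := by
  set Q : K[X] := ∑ i ∈ Finset.range m, X ^ i with hQ
  have hcop : IsCoprime ((X - C (1 : K)) ^ n) Q := by
    refine IsCoprime.pow_left ((irreducible_X_sub_C (1 : K)).coprime_iff_not_dvd.2 fun h => hm ?_)
    rw [dvd_iff_isRoot, IsRoot, hQ, eval_finset_sum] at h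
    simpa using h
  obtain ⟨a, b, hab⟩ := hcop
  have hQ0 : (X - C (1 : K)) * Q = X ^ m - 1 := by rw [hQ, C_1, mul_geom_sum]
  have hn1 : X - C (1 : K) = (X - C (1 : K)) * a * (X - C (1 : K)) ^ n + b * (X ^ m - 1) := by
    conv_lhs => rw [← mul_one (X - C (1 : K)), ← hab]
    rw [← hQ0]; ring
  have h := congrArg (aeval T) hn1
  simp only [map_add, map_mul, map_sub, map_pow, aeval_X, map_one, hT, hn, sub_self, mul_zero,
    add_zero] at h
  exact sub_eq_zero.1 h

/-- A multiset of roots of unity whose sum is its size consists of ones. -/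
theorem eq_one_of_sum_eq_card {s : Multiset ℂ} (h1 : ∀ z ∈ s, ‖z‖ = 1)
    (h : s.sum = (Multiset.card s : ℂ)) : ∀ z ∈ s, z = 1 := by
  intro z hz
  obtain ⟨t, rfl⟩ := Multiset.exists_cons_of_mem hz
  have hre : ∀ u : Multiset ℂ, (∀ w ∈ u, ‖w‖ = 1) → u.sum.re ≤ Multiset.card u := by
    intro u
    induction u using Multiset.induction with
    | empty => simp
    | cons a u ih =>
      intro hu
      have ha := (Complex.re_le_norm a).trans_eq (hu a (Multiset.mem_cons_self _ _))
      have := ih fun w hw => hu w (Multiset.mem_cons_of_mem hw)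
      simp only [Multiset.sum_cons, Complex.add_re, Multiset.card_cons]
      push_cast
      linarith
  have hz1 := h1 z hz
  have ht := hre t fun w hw => h1 w (Multiset.mem_cons_of_mem hw)
  have hsum := congrArg Complex.re h
  simp only [Multiset.sum_cons, Complex.add_re, Multiset.card_cons, Complex.natCast_re] at hsum
  push_cast at hsum
  have hle := (Complex.re_le_norm z).trans_eq hz1
  have hzre : z.re = 1 := by linarith
  exact Complex.ext hzre (Complex.abs_re_eq_norm.1 (by rw [hz1, hzre, abs_one]))

/-- A cyclic subgroup of order `2 ^ r - 1` with self-centralising non-trivial elements and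
normaliser of index `r` over it is normal, given a faithful representation of dimension `r` in
coprime characteristic. -/
theorem normal_of_small_rep {X : Type*} [Group X] [Finite X] {l r : ℕ} [Fact l.Prime]
    (hl : ¬ l ∣ Nat.card X) (hr5 : 5 ≤ r) (K : Subgroup X) [IsCyclic K]
    (hK : Nat.card K = 2 ^ r - 1) (hC : ∀ k ∈ K, k ≠ 1 → ∀ g, g * k = k * g → g ∈ K)
    (hN : Nat.card (Subgroup.normalizer (K : Set X)) = r * (2 ^ r - 1))
    (V : Type*) [AddCommGroup V] [Module (ZMod l) V] [Finite V]
    (hV : Module.finrank (ZMod l) V = r) (rho : X →* (V ≃ₗ[ZMod l] V))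
    (hinj : Function.Injective rho) : K.Normal := by
  classical
  let := Fintype.ofFinite X
  have hcc : IsCC K := by
    refine ⟨fun a ha b hb => ?_, fun f hf hf1 g hg => hC f hf hf1 g
      (Subgroup.mem_centralizer_singleton_iff.1 hg)⟩
    let := IsCyclic.commGroup (α := K)
    exact congrArg Subtype.val (mul_comm (⟨a, ha⟩ : K) ⟨b, hb⟩)
  have hp : l.Prime := Fact.out
  obtain ⟨M, hM⟩ := BC86.exists_isPModular hp
  have hMmax : M.IsMaximal := hM.2.1
  obtain ⟨Bv, hBv⟩ := exists_isPlace M
  have hchar := hBv.charP hM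
  let ι : ZMod l →+* Kf Bv := ZMod.castHom dvd_rfl (Kf Bv)
  have : Module.Finite (ZMod l) V := Module.Finite.of_finite
  let b := Module.finBasisOfFinrankEq (ZMod l) V hV
  let R : X →* Matrix (Fin r) (Fin r) (ZMod l) :=
    { toFun := fun g => LinearMap.toMatrixAlgEquiv b (rho g).toLinearMap
      map_one' := by
        rw [map_one]
        exact map_one (LinearMap.toMatrixAlgEquiv b)
      map_mul' := fun g h => by
        rw [map_mul, ← map_mul (LinearMap.toMatrixAlgEquiv b)]
        rfl }
  let R' : X →* Matrix (Fin r) (Fin r) (Kf Bv) := ι.mapMatrix.toMonoidHom.comp R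
  have hχ := isCharacter_bchar_of_not_dvd hM hl hBv (matRep R')
  have hd : bchar l (matRep R') 1 = (r : ℂ) := by rw [bchar_one hp, Module.finrank_fin_fun]
  refine hcc.normal_of_faithful_character (e := r) (d := r) (by rw [hN, hK]) ?_ hχ hd le_rfl
    fun g hg => ?_
  · rw [hK]
    have : r * (r + 1) + 2 ≤ 2 ^ r := by
      clear * - hr5
      induction r, hr5 using Nat.le_induction with
      | base => norm_num
      | succ n hn ih => rw [pow_succ]; nlinarith
    omega
  have hgl : ¬ l ∣ orderOf g := fun h => hl (h.trans (orderOf_dvd_natCard g))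
  set T := matRep R' g with hT
  rw [hd, bchar_of_not_dvd _ hgl, ← hT] at hg
  have hcard : Multiset.card T.charpoly.roots = r := by
    rw [IsAlgClosed.card_roots_eq_natDegree, LinearMap.charpoly_natDegree, Module.finrank_fin_fun]
  have hall : ∀ u ∈ T.charpoly.roots, u = 1 := by
    intro u hu
    obtain ⟨z, hz, hzu, hlz⟩ := lft_spec hp hgl (pow_orderOf_eigen (matRep R') hu)
    have h1 := eq_one_of_sum_eq_card (s := T.charpoly.roots.map (lft l Bv)) (fun w hw => by
      obtain ⟨u', hu', rfl⟩ := Multiset.mem_map.1 hw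
      obtain ⟨z', hz', -, hlz'⟩ := lft_spec hp hgl (pow_orderOf_eigen (matRep R') hu')
      rw [hlz']
      exact Complex.norm_eq_one_of_pow_eq_one (by exact_mod_cast congrArg Subtype.val hz')
        (orderOf_pos g).ne') (by rw [hg, Multiset.card_map, hcard]) _ (Multiset.mem_map_of_mem _ hu)
    rw [hlz] at h1
    rw [← hzu, show z = 1 from Subtype.ext h1, map_one]
  have hpoly : T.charpoly = (Polynomial.X - C (1 : Kf Bv)) ^ r := by
    conv_lhs => rw [Splits.eq_prod_roots_of_monic (IsAlgClosed.splits _)
      (LinearMap.charpoly_monic T)]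
    rw [Multiset.eq_replicate.2 ⟨hcard, hall⟩, Multiset.map_replicate, Multiset.prod_replicate]
  have hn : (T - 1) ^ r = 0 := by
    have h := LinearMap.aeval_self_charpoly T
    rwa [hpoly, map_pow, map_sub, aeval_X, aeval_C, map_one] at h
  have hm : ((orderOf g : ℕ) : Kf Bv) ≠ 0 := fun h => hgl ((CharP.cast_eq_zero_iff (Kf Bv) l _).1 h)
  have hT1 : T = 1 := eq_one_of_pow_sub_one
    (by rw [hT, ← map_pow, pow_orderOf_eq_one, map_one]) hm hn
  have hR' : R' g = 1 := by
    apply Matrix.toLin'.injective
    rw [← matRep_apply, ← hT, hT1, Matrix.toLin'_one]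
    rfl
  have hR : R g = 1 := Matrix.map_injective ι.injective (by
    show (R g).map ι = (1 : Matrix (Fin r) (Fin r) (ZMod l)).map ι
    rw [Matrix.map_one ι (map_zero ι) (map_one ι)]
    exact hR')
  have h1 : (rho g).toLinearMap = 1 :=
    (LinearMap.toMatrixAlgEquiv b).injective (hR.trans (map_one _).symm)
  exact hinj (by rw [map_one]; exact LinearEquiv.toLinearMap_injective h1)

end

end Cfsg.Agent.Bender20
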